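import Cfsg.Agent.Lib.Transfer.Fusion
import Cfsg.Agent.Lib.Transfer.SmallSylow
import Cfsg.Agent.Lib.SmallGroups.Basic
import Cfsg.Agent.Lib.Cores.Balance
import Cfsg.Agent.Lib.Cores.SignalizerConnected
import Cfsg.Agent.Lib.Signalizer.Corollaries
import Cfsg.Agent.Lib.Solvable.Basic
import Cfsg.Agent.S0205
import Cfsg.Agent.S1279
import Cfsg.Agent.S0223

/-!
Groups in which every subgroup of order prime to `p` is abelian of exponent dividing `p - 1`:
the strongly embedded subgroup of a minimal simple one.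
-/

set_option autoImplicit false

namespace CfsgLib.Transfer.AbPrime

open Subgroup Cfsg
open scoped commutatorElement

variable {G : Type*} [Group G]

/-- The hypothesis. -/
def Hyp (p : ℕ) (G : Type*) [Group G] : Prop :=
  ∀ H : Subgroup G, (Nat.card ↥H).Coprime p → IsMulCommutative ↥H ∧ ∀ x ∈ H, x ^ (p - 1) = 1

theorem Hyp.subgroup {p : ℕ} (h : Hyp p G) (K : Subgroup G) : Hyp p K := by
  intro H hH
  obtain ⟨h1, h2⟩ := h (H.map K.subtype) (by rwa [card_map_of_injective K.subtype_injective])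
  refine ⟨⟨⟨fun a b => ?_⟩⟩, fun x hx => Subtype.ext ?_⟩
  · have h3 := congrArg Subtype.val
      (h1.is_comm.comm ⟨_, mem_map_of_mem K.subtype a.2⟩ ⟨_, mem_map_of_mem K.subtype b.2⟩)
    exact Subtype.ext (Subtype.ext (by simpa using h3))
  · exact h2 _ (mem_map_of_mem K.subtype hx)

variable [Finite G] {p : ℕ} [Fact p.Prime]

theorem Hyp.commute_of_mem (h : Hyp p G) {H : Subgroup G} (hH : (Nat.card H).Coprime p) {a b : G}
    (ha : a ∈ H) (hb : b ∈ H) : a * b = b * a :=
  congrArg Subtype.val ((h H hH).1.is_comm.comm ⟨a, ha⟩ ⟨b, hb⟩)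

theorem coprime_orderOf_of_mem {H : Subgroup G} (hH : (Nat.card H).Coprime p) {a : G} (ha : a ∈ H) :
    (orderOf a).Coprime p :=
  hH.coprime_dvd_left (Subgroup.orderOf_dvd_natCard H ha)

theorem coprime_card_sup {H K : Subgroup G} (hn : K ≤ normalizer (H : Set G))
    (hH : (Nat.card H).Coprime p) (hK : (Nat.card K).Coprime p) : (Nat.card ↥(H ⊔ K)).Coprime p := by
  haveI : (H.subgroupOf (H ⊔ K)).Normal := normal_subgroupOf_of_le_normalizer (sup_le le_normalizer hn)
  have h1 := CfsgLib.Cores.card_sup_dvd_mul (H.subgroupOf (H ⊔ K)) (K.subgroupOf (H ⊔ K))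
  rw [← subgroupOf_sup le_sup_left le_sup_right, subgroupOf_self, card_top, Nat.card_congr (subgroupOfEquivOfLe (le_sup_left : H ≤ H ⊔ K)).toEquiv,
    Nat.card_congr (subgroupOfEquivOfLe (le_sup_right : K ≤ H ⊔ K)).toEquiv] at h1
  exact (hH.mul_left hK).coprime_dvd_left h1

theorem Hyp.commute_of_normalizes (h : Hyp p G) {H : Subgroup G} (hH : (Nat.card H).Coprime p) {x : G}
    (hx : (orderOf x).Coprime p) (hn : x ∈ normalizer (H : Set G)) : ∀ y ∈ H, x * y = y * x :=
  fun _ hy => h.commute_of_mem (coprime_card_sup (zpowers_le.2 hn) hH (by rwa [Nat.card_zpowers]))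
    (mem_sup_right (mem_zpowers x)) (mem_sup_left hy)

theorem Hyp.commute_of_normalizes' (h : Hyp p G) {H K : Subgroup G} (hH : (Nat.card H).Coprime p)
    (hK : (Nat.card K).Coprime p) (hn : K ≤ normalizer (H : Set G)) : K ≤ centralizer (H : Set G) :=
  fun _ hx => mem_centralizer_iff.2 fun y hy =>
    (h.commute_of_normalizes hH (coprime_orderOf_of_mem hK hx) (hn hx) y hy).symm

/-- An involution inverts no element of order prime to `p` other than involutions. -/
theorem Hyp.inverted (h : Hyp p G) (hp2 : p ≠ 2) {t y : G} (ht : orderOf t = 2) (hy : (orderOf y).Coprime p)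
    (hinv : t * y * t⁻¹ = y⁻¹) : y * y = 1 := by
  have hn : t ∈ normalizer (zpowers y : Set G) := by
    have h2 : t⁻¹ = t := inv_eq_of_mul_eq_one_left (by rw [← sq, ← ht, pow_orderOf_eq_one])
    have hfwd : ∀ z ∈ zpowers y, t * z * t⁻¹ ∈ zpowers y := by
      intro z hz
      obtain ⟨i, rfl⟩ := mem_zpowers_iff.1 hz
      rw [← conj_zpow, hinv]
      exact zpow_mem (inv_mem (mem_zpowers y)) i
    refine mem_normalizer_iff.2 fun z => ⟨hfwd z, fun hz => ?_⟩
    have h3 := hfwd _ hz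
    rwa [h2, show t * (t * z * t) * t = (t * t) * z * (t * t) by group,
      ← sq, ← ht, pow_orderOf_eq_one, one_mul, mul_one] at h3
  have h1 := h.commute_of_normalizes (H := zpowers y) (by rwa [Nat.card_zpowers])
    (ht ▸ (Nat.coprime_primes Nat.prime_two Fact.out).2 hp2.symm) hn y (mem_zpowers y)
  rw [h1, mul_inv_cancel_right] at hinv
  calc y * y = y * y⁻¹ := by rw [← hinv]
    _ = 1 := mul_inv_cancel y

omit [Finite G] in
/-- An element of odd order centralising the involutions of an abelian `2`-group centralises it. -/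
theorem mem_centralizer_of_omega {S : Subgroup G} (hS : IsPGroup 2 S) (hc : ∀ a ∈ S, ∀ b ∈ S, a * b = b * a)
    {x : G} (hx : x ∈ normalizer (S : Set G)) {n : ℕ} (hn : Odd n) (hxn : x ^ n ∈ centralizer (S : Set G))
    (h : ∀ a ∈ S, a ^ 2 = 1 → x * a * x⁻¹ = a) : x ∈ centralizer (S : Set G) := by
  suffices key : ∀ k, ∀ s ∈ S, s ^ 2 ^ k = 1 → x * s * x⁻¹ = s by
    refine mem_centralizer_iff.2 fun s hs => ?_
    obtain ⟨k, hk⟩ := hS ⟨s, hs⟩
    have := key k s hs (congrArg Subtype.val hk)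
    exact (mul_inv_eq_iff_eq_mul.1 this).symm
  intro k
  induction k with
  | zero => intro s _ h1; rw [pow_zero, pow_one] at h1; rw [h1]; group
  | succ k ih =>
    intro s hs h1
    have hxs : x * s * x⁻¹ ∈ S := (mem_normalizer_iff.1 hx s).1 hs
    set c := s⁻¹ * (x * s * x⁻¹) with hcdef
    have hcS : c ∈ S := S.mul_mem (S.inv_mem hs) hxs
    have hc2 : c ^ 2 = 1 := by
      have h2 := ih (s ^ 2) (S.pow_mem hs 2) (by rw [← pow_mul, ← pow_succ', h1])
      rw [← conj_pow] at h2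
      rw [hcdef, (Commute.mul_pow (show Commute s⁻¹ (x * s * x⁻¹) from hc _ (S.inv_mem hs) _ hxs) 2),
        h2, inv_pow, inv_mul_cancel]
    have hfix := h c hcS hc2
    have hit : ∀ j : ℕ, x ^ j * s * (x ^ j)⁻¹ = s * c ^ j := by
      intro j
      induction j with
      | zero => simp
      | succ j ihj =>
        have e2 : x * c ^ j * x⁻¹ = c ^ j := by rw [← conj_pow, hfix]
        calc x ^ (j + 1) * s * (x ^ (j + 1))⁻¹ = x * (x ^ j * s * (x ^ j)⁻¹) * x⁻¹ := by
              rw [pow_succ']; group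
          _ = (x * s * x⁻¹) * (x * c ^ j * x⁻¹) := by rw [ihj]; group
          _ = s * c ^ (j + 1) := by rw [e2, pow_succ', ← mul_assoc, show x * s * x⁻¹ = s * c by rw [hcdef]; group]
    have h3 := hit n
    rw [← mem_centralizer_iff.1 hxn s hs, mul_inv_cancel_right] at h3
    obtain ⟨m, rfl⟩ := hn
    rw [pow_succ, pow_mul, hc2, one_pow, one_mul] at h3
    have : c = 1 := mul_left_cancel (a := s) (by rw [← h3, mul_one])
    rw [hcdef, inv_mul_eq_one] at this
    exact this.symm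

/-- A minimal counterexample. -/
structure Ctx (p : ℕ) (G : Type*) [Group G] : Prop where
  hyp : Hyp p G
  simple : IsSimpleGroup G
  nonab : ¬ IsMulCommutative G
  five : 5 ≤ p
  solv : ∀ H : Subgroup G, H ≠ ⊤ → Group.IsSolvable H

variable (hG : Ctx p G)
include hG

omit [Finite G] [Fact p.Prime] in
theorem Ctx.ne_two : p ≠ 2 := fun h => by have := hG.five; omega

theorem Ctx.not_solvable : ¬ Group.IsSolvable G := fun hs => by
  haveI := hG.simple
  have hne : commutator G ≠ ⊤ := (Group.IsSolvable.commutator_lt_top_of_nontrivial G).ne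
  rcases hG.simple.eq_bot_or_eq_top_of_normal (commutator G) inferInstance with h | h
  · exact hG.nonab ⟨⟨fun a b => by
      have h1 : ⁅a, b⁆ ∈ commutator G := Subgroup.commutator_mem_commutator (mem_top a) (mem_top b)
      rw [h, mem_bot, commutatorElement_eq_one_iff_mul_comm] at h1
      exact h1⟩⟩
  · exact hne h

theorem Ctx.two_dvd : 2 ∣ Nat.card G := by
  by_contra h
  exact hG.not_solvable (Cfsg.Agent.S0205.result (Nat.odd_iff.2 (by omega)))

theorem Ctx.normalizer_ne_top {H : Subgroup G} (h1 : H ≠ ⊥) (h2 : H ≠ ⊤) : normalizer (H : Set G) ≠ ⊤ := by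
  intro h
  haveI : H.Normal := normalizer_eq_top_iff.1 h
  rcases hG.simple.eq_bot_or_eq_top_of_normal H inferInstance with h' | h'
  exacts [h1 h', h2 h']

theorem Ctx.coprime_two {H : Subgroup G} (hH : IsPGroup 2 H) : (Nat.card H).Coprime p := by
  haveI : Fact (Nat.Prime 2) := ⟨Nat.prime_two⟩
  obtain ⟨k, hk⟩ := IsPGroup.iff_card.1 hH
  rw [hk]
  exact ((Nat.coprime_primes Nat.prime_two Fact.out).2 hG.ne_two.symm).pow_left k

theorem Ctx.comm_two {H : Subgroup G} (hH : IsPGroup 2 H) : ∀ a ∈ H, ∀ b ∈ H, a * b = b * a :=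
  fun _ ha _ hb => hG.hyp.commute_of_mem (hG.coprime_two hH) ha hb

/-- The involutions of an abelian subgroup, with the identity. -/
theorem exists_omega (S : Subgroup G) (hc : ∀ a ∈ S, ∀ b ∈ S, a * b = b * a) :
    ∃ A : Subgroup G, A ≤ S ∧ (∀ a, a ∈ A ↔ a ∈ S ∧ a ^ 2 = 1) ∧ IsElementaryAbelian 2 A := by
  let A : Subgroup G :=
    { carrier := {a | a ∈ S ∧ a ^ 2 = 1}
      mul_mem' := fun {a b} ha hb => ⟨S.mul_mem ha.1 hb.1, by
        rw [(Commute.mul_pow (hc a ha.1 b hb.1) 2), ha.2, hb.2, one_mul]⟩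
      one_mem' := ⟨S.one_mem, one_pow 2⟩
      inv_mem' := fun {a} ha => ⟨S.inv_mem ha.1, by rw [inv_pow, ha.2, inv_one]⟩ }
  exact ⟨A, fun a ha => ha.1, fun a => Iff.rfl,
    CfsgLib.PGroup.isElementaryAbelian_mk (fun a ha b hb => hc a ha.1 b hb.1) fun a ha => ha.2⟩

theorem Ctx.omega_large [Fact (Nat.Prime 2)] (S : Sylow 2 G) {A : Subgroup G} (hAS : A ≤ S)
    (hA : ∀ a, a ∈ A ↔ a ∈ (S : Subgroup G) ∧ a ^ 2 = 1) :
    2 ^ 3 ≤ Nat.card A ∧ ∃ y ∈ normalizer ((S : Subgroup G) : Set G), (∃ k, orderOf y = p ^ k) ∧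
      y ∉ centralizer ((S : Subgroup G) : Set G) := by
  haveI := hG.simple
  have hcS := hG.comm_two S.isPGroup'
  have hnle := CfsgLib.SmallGroups.not_normalizer_le_centralizer hG.nonab hG.two_dvd S
  obtain ⟨x, hx, hxC⟩ := SetLike.not_le_iff_exists.1 hnle
  obtain ⟨y, hy, k, hyk, hyC⟩ : ∃ y ∈ normalizer ((S : Subgroup G) : Set G), ∃ k, orderOf y = p ^ k ∧
      y ∉ centralizer ((S : Subgroup G) : Set G) := by
    by_contra hcon
    push Not at hcon
    refine hxC (CfsgLib.Transfer.mem_of_prime_pow_powers _ (isOfFinOrder_of_finite x) fun z hz q k hq hk ho => ?_)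
    have hzN : z ∈ normalizer ((S : Subgroup G) : Set G) := zpowers_le.2 hx hz
    rcases eq_or_ne q p with rfl | hqp
    · exact hcon z hzN k ho
    · have hco : (orderOf z).Coprime p := by
        rw [ho]; exact ((Nat.coprime_primes hq Fact.out).2 hqp).pow_left k
      exact mem_centralizer_iff.2 fun s hs =>
        (hG.hyp.commute_of_normalizes (hG.coprime_two S.isPGroup') hco hzN s hs).symm
  refine ⟨?_, y, hy, ⟨k, hyk⟩, hyC⟩
  by_contra hlt
  push Not at hlt
  have hyA : y ∈ normalizer (A : Set G) := by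
    refine mem_normalizer_iff.2 fun a => ?_
    rw [hA, hA, ← mem_normalizer_iff.1 hy a, conj_pow]
    constructor
    · exact fun h => ⟨h.1, by rw [h.2]; group⟩
    · exact fun h => ⟨h.1, by simpa [mul_inv_eq_one, mul_eq_left] using h.2⟩
  have hmod := CfsgLib.Transfer.card_modEq_inf_centralizer A hyA hyk
  have hle : Nat.card ↥(A ⊓ centralizer ({y} : Set G)) ≤ Nat.card A := card_le_of_le inf_le_left
  have hA4 : Nat.card A ≤ 4 := by
    haveI : Fact (Nat.Prime 2) := ⟨Nat.prime_two⟩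
    obtain ⟨j, hj⟩ := IsPGroup.iff_card.1 (S.isPGroup'.to_le hAS)
    rw [hj] at hlt ⊢
    exact (pow_le_pow_right₀ (by norm_num) (Nat.le_of_lt_succ ((Nat.pow_lt_pow_iff_right (by norm_num)).1 hlt))).trans_eq (by norm_num)
  have hp5 := hG.five
  have heq : Nat.card ↥(A ⊓ centralizer ({y} : Set G)) = Nat.card A :=
    (Nat.ModEq.eq_of_lt_of_lt hmod (by omega) (by omega)).symm
  have hfix := Subgroup.eq_of_le_of_card_ge inf_le_left heq.ge
  refine hyC (mem_centralizer_of_omega S.isPGroup' hcS hy (n := orderOf y) ?_ (by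
    rw [pow_orderOf_eq_one]; exact one_mem _) fun a haS ha2 => ?_)
  · rw [hyk]
    exact ((Fact.out : p.Prime).odd_of_ne_two hG.ne_two).pow
  · have h1 : a ∈ A ⊓ centralizer ({y} : Set G) := hfix.ge ((hA a).2 ⟨haS, ha2⟩)
    rw [← mem_centralizer_singleton_iff.1 h1.2, mul_inv_cancel_right]

theorem solvable_le_oddCore_sup {H : Type*} [Group H] [Finite H] [Group.IsSolvable H] [Fact (Nat.Prime 2)]
    (T : Sylow 2 H) (hT : ∀ a ∈ (T : Subgroup H), ∀ b ∈ (T : Subgroup H), a * b = b * a) :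
    oddCore H ⊔ normalizer ((T : Subgroup H) : Set H) = ⊤ := by
  set O := oddCore H
  let π := QuotientGroup.mk' O
  let Tb : Sylow 2 (H ⧸ O) := T.mapSurjective (f := π) (QuotientGroup.mk'_surjective O)
  have hTb : (Tb : Subgroup (H ⧸ O)) = (T : Subgroup H).map π := Sylow.coe_mapSurjective _ T
  have hcore := CfsgLib.Solvable.centralizer_pCore_le (G := H ⧸ O) 2 (CfsgLib.Cores.pPrimeCore_quotient_self 2)
  have h1 : (Tb : Subgroup (H ⧸ O)) ≤ pCore 2 (H ⧸ O) := by
    intro a ha
    refine hcore (mem_centralizer_iff.2 fun b hb => ?_)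
    have hbT : b ∈ (T : Subgroup H).map π := hTb.le (CfsgLib.Cores.pCore_le_sylow Tb hb)
    obtain ⟨b', hb', rfl⟩ := hbT
    obtain ⟨a', ha', rfl⟩ := (hTb.le ha : a ∈ (T : Subgroup H).map π)
    rw [← map_mul, ← map_mul, hT b' hb' a' ha']
  have h2 : pCore 2 (H ⧸ O) = Tb := le_antisymm (CfsgLib.Cores.pCore_le_sylow Tb) h1
  haveI : ((T : Subgroup H).map π).Normal := by rw [← hTb, ← h2]; infer_instance
  set N := ((T : Subgroup H).map π).comap π with hN
  have hTN : (T : Subgroup H) ≤ N := le_comap_map _ _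
  have h3 := Sylow.normalizer_sup_eq_top' T hTN
  rw [hN, comap_map_eq, QuotientGroup.ker_mk'] at h3
  rw [eq_top_iff, ← h3]
  exact sup_le le_sup_right (sup_le ((le_normalizer).trans le_sup_right) le_sup_left)

/-- A proper subgroup is its odd core times the normaliser of a Sylow `2`-subgroup. -/
theorem Ctx.decompose [Fact (Nat.Prime 2)] {H : Subgroup G} (hH : H ≠ ⊤) {T : Subgroup G} (hT : IsPGroup 2 T)
    (hTH : T ≤ H) :
    ∃ (T' : Subgroup G), T ≤ T' ∧ T' ≤ H ∧ IsPGroup 2 T' ∧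
      H ≤ (oddCore ↥H).map H.subtype ⊔ (H ⊓ normalizer (T' : Set G)) := by
  haveI := hG.solv H hH
  obtain ⟨T0, hT0⟩ := (hT.comap_subtype (K := H)).exists_le_sylow
  set T' := (T0 : Subgroup H).map H.subtype with hT'
  have hp' : IsPGroup 2 T' := T0.isPGroup'.map _
  refine ⟨T', ?_, map_subtype_le _, hp', ?_⟩
  · intro t ht
    exact ⟨⟨t, hTH ht⟩, hT0 (show ((⟨t, hTH ht⟩ : H) : G) ∈ T from ht), rfl⟩
  · have hdec := solvable_le_oddCore_sup hG T0 fun a ha b hb =>
      Subtype.ext (hG.comm_two hp' a (mem_map_of_mem _ ha) b (mem_map_of_mem _ hb))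
    conv_lhs => rw [← range_subtype H, MonoidHom.range_eq_map, ← hdec, Subgroup.map_sup]
    refine sup_le le_sup_left (le_sup_of_le_right (le_inf (map_subtype_le _) ?_))
    exact le_normalizer_map H.subtype

end CfsgLib.Transfer.AbPrime
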