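import Cfsg.Agent.Lib.Transfer.AbPrime.Basic
import Cfsg.Agent.Lib.Transfer.Plane
import Cfsg.Agent.Lib.PStab.Control
import Cfsg.Agent.Lib.PStab.Fusion
import Cfsg.Agent.Lib.Invol.Embedded

/-!
In a minimal simple group with abelian `p'`-subgroups of exponent dividing `p - 1` the normaliser of
a Sylow `2`-subgroup is strongly embedded and `p + 1` is the order of that Sylow subgroup.
-/

set_option autoImplicit false

namespace CfsgLib.Transfer.AbPrime

open Subgroup Cfsg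
open scoped commutatorElement

variable {G : Type*} [Group G] [Finite G] {p : ℕ} [Fact p.Prime] (hG : Ctx p G)
include hG

theorem Ctx.exists_embedded [Fact (Nat.Prime 2)] (S : Sylow 2 G) :
    ∃ M : Subgroup G, normalizer ((S : Subgroup G) : Set G) ≤ M ∧ IsStronglyEmbedded M := by
  classical
  haveI := hG.simple
  have hcS := hG.comm_two S.isPGroup'
  obtain ⟨A, hAS, hA, hAel⟩ := exists_omega hG (S : Subgroup G) hcS
  obtain ⟨hA3, -, -⟩ := hG.omega_large S hAS hA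
  have hSne : (S : Subgroup G) ≠ ⊥ := fun h => by
    have : Nat.card A ≤ 1 := (card_le_of_le hAS).trans_eq (by rw [h, card_bot])
    omega
  have hStop : (S : Subgroup G) ≠ ⊤ := fun h => hG.nonab ⟨⟨fun a b =>
    hcS a (h ▸ mem_top a) b (h ▸ mem_top b)⟩⟩
  have hCne : ∀ a : G, a ≠ 1 → centralizer ({a} : Set G) ≠ ⊤ := by
    intro a ha h
    have hz : a ∈ center G := mem_center_iff.2 fun g => mem_centralizer_singleton_iff.1 (h ▸ mem_top g)
    rcases hG.simple.eq_bot_or_eq_top_of_normal (center G) inferInstance with h' | h'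
    · exact ha (mem_bot.1 (h' ▸ hz))
    · exact hG.nonab ⟨⟨fun x y => mem_center_iff.1 (h' ▸ mem_top y) x⟩⟩
  have hA2 : (2 : ℕ) ^ 2 ≤ Nat.card A := le_trans (by norm_num) hA3
  have hfun := Cfsg.Agent.S1279.result 2 A hAel hA2 fun a ha ha1 => hG.solv _ (hCne a ha1)
  obtain ⟨⟨hC, hp', hinv, hbal⟩, hsol⟩ := hfun
  obtain ⟨hK1, -⟩ := CfsgLib.Signalizer.solvableSignalizerTheorem 2 G A
    (fun a ha b hb => CfsgLib.PGroup.elemAb_comm hAel ha hb) hAel.2 hA3 _ hC hp' hinv hsol hbal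
  set K : Subgroup G := ⨆ a : {a : G // a ∈ A ∧ a ≠ 1}, centralizerPPrimeCore 2 (a : G) with hK
  have hNK : normalizer ((S : Subgroup G) : Set G) ≤ normalizer (K : Set G) := by
    have hfwd : ∀ n ∈ normalizer ((S : Subgroup G) : Set G), K.map (MulAut.conj n).toMonoidHom ≤ K := by
      intro n hn
      rw [hK, Subgroup.map_iSup]
      refine iSup_le fun a => ?_
      rw [← CfsgLib.Cores.centralizerPPrimeCore_conj]
      refine le_iSup_of_le (⟨n * (a : G) * n⁻¹, ?_, ?_⟩ : {a : G // a ∈ A ∧ a ≠ 1}) le_rfl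
      · refine (hA _).2 ⟨(mem_normalizer_iff.1 hn _).1 ((hA _).1 a.2.1).1, ?_⟩
        rw [conj_pow, ((hA _).1 a.2.1).2, mul_one, mul_inv_cancel]
      · simpa [mul_inv_eq_one, mul_eq_left] using a.2.2
    intro n hn
    refine CfsgLib.Solvable.mem_normalizer_of_conj_mem fun x hx => hfwd n hn ⟨x, hx, rfl⟩
  obtain ⟨M, hMN, hMK, hKM, hMtop⟩ : ∃ M : Subgroup G, normalizer ((S : Subgroup G) : Set G) ≤ M ∧
      M ≤ normalizer (K : Set G) ∧ K ≤ M ∧ M ≠ ⊤ := by
    rcases eq_or_ne K ⊥ with h | h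
    · exact ⟨_, le_rfl, hNK, h ▸ bot_le, hG.normalizer_ne_top hSne hStop⟩
    · refine ⟨_, hNK, le_rfl, le_normalizer, hG.normalizer_ne_top h fun h' => ?_⟩
      rw [h', card_top] at hK1
      exact hK1 hG.two_dvd
  have hCM : ∀ a ∈ A, a ≠ 1 → centralizer ({a} : Set G) ≤ M := by
    intro a ha ha1
    have hSC : (S : Subgroup G) ≤ centralizer ({a} : Set G) := fun s hs =>
      mem_centralizer_singleton_iff.2 (hcS s hs a (hAS ha))
    obtain ⟨T', hST, -, hT', hdec⟩ := hG.decompose (hCne a ha1) S.isPGroup' hSC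
    obtain rfl := S.3 hT' hST
    refine hdec.trans (sup_le (le_trans ?_ hKM) (inf_le_right.trans hMN))
    exact le_iSup (fun a : {a : G // a ∈ A ∧ a ≠ 1} => centralizerPPrimeCore 2 (a : G)) ⟨a, ha, ha1⟩
  have hSM : (S : Subgroup G) ≤ M := le_normalizer.trans hMN
  have hintoA : ∀ t ∈ M, orderOf t = 2 → ∃ m ∈ M, m * t * m⁻¹ ∈ A ∧ m * t * m⁻¹ ≠ 1 := by
    intro t ht ht2
    obtain ⟨m, hm, hmem⟩ := CfsgLib.Transfer.exists_conj_mem_sylow_of_le S (H := M) hSM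
      (S := zpowers t) (zpowers_le.2 ht) (IsPGroup.of_card (n := 1) (by rw [Nat.card_zpowers, ht2, pow_one]))
    have hne : m * t * m⁻¹ ≠ 1 := fun h => by
      rw [mul_inv_eq_one, mul_eq_left] at h
      rw [h, orderOf_one] at ht2; omega
    refine ⟨m, hm, (hA _).2 ⟨hmem t (mem_zpowers t), ?_⟩, hne⟩
    rw [conj_pow, ← ht2, pow_orderOf_eq_one, mul_one, mul_inv_cancel]
  refine ⟨M, hMN, (Cfsg.Agent.S0223.result M hMtop ?_).2 ⟨?_, ?_⟩⟩
  · rw [even_iff_two_dvd]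
    exact (dvd_of_mem_primeFactors' S hSne).trans (card_dvd_of_le hSM)
  · intro t ht ht2 c hc
    obtain ⟨m, hm, hmA, hm1⟩ := hintoA t ht ht2
    have h1 : m * c * m⁻¹ ∈ centralizer ({m * t * m⁻¹} : Set G) := by
      rw [mem_centralizer_singleton_iff]
      rw [show m * c * m⁻¹ * (m * t * m⁻¹) = m * (c * t) * m⁻¹ by group, mem_centralizer_singleton_iff.1 hc]
      group
    have h2 := hCM _ hmA hm1 h1
    rwa [M.mul_mem_cancel_right (M.inv_mem hm), M.mul_mem_cancel_left hm] at h2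
  · intro t ht s hs ht2 hs2 hts
    obtain ⟨m₁, hm₁, h₁, -⟩ := hintoA t ht ht2
    obtain ⟨m₂, hm₂, h₂, -⟩ := hintoA s hs hs2
    obtain ⟨g, hg⟩ := isConj_iff.1 hts
    obtain ⟨n, hn, hne⟩ := controlsFusion_normalizer S ⟨⟨fun a b => Subtype.ext (hcS a a.2 b b.2)⟩⟩
      (m₁ * t * m₁⁻¹) (hAS h₁) (m₂ * g * m₁⁻¹) (by
        rw [show m₂ * g * m₁⁻¹ * (m₁ * t * m₁⁻¹) * (m₂ * g * m₁⁻¹)⁻¹ = m₂ * (g * t * g⁻¹) * m₂⁻¹ by group, hg]
        exact hAS h₂)
    refine ⟨m₂⁻¹ * n * m₁, M.mul_mem (M.mul_mem (M.inv_mem hm₂) (hMN hn)) hm₁, ?_⟩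
    calc m₂⁻¹ * n * m₁ * t * (m₂⁻¹ * n * m₁)⁻¹ = m₂⁻¹ * (n * (m₁ * t * m₁⁻¹) * n⁻¹) * m₂ := by group
      _ = g * t * g⁻¹ := by rw [hne]; group
      _ = s := hg
where
  dvd_of_mem_primeFactors' {G : Type _} [Group G] [Finite G] [Fact (Nat.Prime 2)] (S : Sylow 2 G)
      (hS : (S : Subgroup G) ≠ ⊥) : 2 ∣ Nat.card (S : Subgroup G) := by
    obtain ⟨k, hk⟩ := IsPGroup.iff_card.1 S.isPGroup'
    rw [hk]
    exact dvd_pow_self 2 fun h => hS (card_eq_one.1 (by rw [hk, h, pow_zero]))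

/-- A proper subgroup meeting the strongly embedded subgroup in a four-group lies in it. -/
theorem Ctx.le_of_four [Fact (Nat.Prime 2)] {M : Subgroup G} (hM : IsStronglyEmbedded M) {H : Subgroup G}
    (hH : H ≠ ⊤) {V : Subgroup G} (hV : IsElementaryAbelian 2 V) (hV4 : 4 ≤ Nat.card V)
    (hVH : V ≤ H) (hVM : V ≤ M) : H ≤ M := by
  classical
  have hV1 : ∀ v ∈ V, v ≠ 1 → orderOf v = 2 := fun v hv hv1 => orderOf_eq_prime (hV.2 v hv) hv1
  have hCV : ∀ v ∈ V, v ≠ 1 → centralizer ({v} : Set G) ≤ M := fun v hv hv1 =>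
    CfsgLib.Invol.stronglyEmbedded_centralizer_le hM (hVM hv) (hV1 v hv hv1)
  obtain ⟨v, hv, hv1⟩ : ∃ v ∈ V, v ≠ 1 := by
    by_contra hc
    push Not at hc
    rw [show V = ⊥ from eq_bot_iff.2 fun v hv => mem_bot.2 (hc v hv), card_bot] at hV4
    omega
  have hVp : IsPGroup 2 V := CfsgLib.PGroup.elemAb_isPGroup hV
  obtain ⟨T', hVT, hTH, hT', hdec⟩ := hG.decompose hH hVp hVH
  refine hdec.trans (sup_le ?_ fun n hn => ?_)
  · refine CfsgLib.Signalizer.le_of_fixed hV hV4 ?_ ?_ fun a ha ha1 => inf_le_right.trans (hCV a ha ha1)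
    · rw [card_map_of_injective H.subtype_injective, ← CfsgLib.Cores.coprime_iff_not_dvd Nat.prime_two]
      exact CfsgLib.Cores.coprime_card_pPrimeCore 2
    · exact (hVH.trans (le_of_eq (range_subtype H).symm)).trans (by
        rw [MonoidHom.range_eq_map, ← normalizer_eq_top (H := oddCore ↥H)]
        exact le_normalizer_map H.subtype)
  · have hvT := hVT hv
    have hnv : n * v * n⁻¹ ∈ T' := (mem_normalizer_iff.1 hn.2 v).1 hvT
    have hT'M : T' ≤ M := fun s hs => hCV v hv hv1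
      (mem_centralizer_singleton_iff.2 (hG.comm_two hT' s hs v hvT))
    exact CfsgLib.Invol.stronglyEmbedded_conj_mem hM (hVM hv) (hV1 v hv hv1) (hT'M hnv)

end CfsgLib.Transfer.AbPrime
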