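import Cfsg.Agent.Lib.Transfer.AbPrime.TwoPoint
import Cfsg.Agent.Lib.Classical22.CTKernelGlobal
import Cfsg.Agent.Lib.Solvable.Hall
import Cfsg.Agent.Lib.Char.Burnside

/-!
Groups in which every subgroup of order prime to `p` is abelian of exponent dividing `p - 1` are
solvable.
-/

set_option autoImplicit false

namespace CfsgLib.Transfer.AbPrime

open Subgroup Cfsg

universe v

variable {G : Type v} [Group G] [Finite G] {p : ℕ} [Fact p.Prime] {S : Subgroup G}

local notation "MM" => normalizer (S : Set G)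
local notation "CC" => centralizer (S : Set G)

variable (hE : Emb p S)
include hE

theorem Emb.not_sq_dvd : ¬ p ^ 2 ∣ Nat.card G := by
  intro h
  obtain ⟨g, hg⟩ : ∃ g, g ∉ MM := by
    by_contra hc
    push Not at hc
    exact hE.se.1 ((eq_top_iff' _).2 hc)
  obtain ⟨i, hi, hiM, -⟩ := hE.exists_involution hg
  obtain ⟨w, -, -, -, hw, -, hwc, -⟩ := hE.two_point hi hiM
  obtain ⟨Q, hQ, hwQ⟩ := Sylow.exists_subgroup_card_pow_succ (n := 1) h
    (H := zpowers w) (by rw [Nat.card_zpowers, hw, pow_one])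
  have hab := IsPGroup.commutative_of_card_eq_prime_sq (p := p) hQ
  have hle : Q ≤ zpowers w := fun q hq =>
    hwc q (congrArg Subtype.val (hab ⟨q, hq⟩ ⟨w, hwQ (mem_zpowers w)⟩))
  have h1 := card_le_of_le hle
  rw [hQ, Nat.card_zpowers, hw] at h1
  have := (Fact.out : p.Prime).one_lt
  rw [pow_succ, pow_one] at h1
  nlinarith

theorem Emb.coprime_cc : (Nat.card (CC)).Coprime p := by
  refine ((Nat.Prime.coprime_iff_not_dvd Fact.out).2 fun h => hE.not_sq_dvd ?_).symm
  have h1 := card_mul_index ((CC).subgroupOf MM)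
  rw [Nat.card_congr (subgroupOfEquivOfLe cc_le_mm).toEquiv, hE.cc_index.1] at h1
  rw [sq]
  exact (Nat.mul_dvd_mul_right h p).trans (h1 ▸ card_subgroup_dvd_card _)

/-- A nontrivial element fixes at most two points. -/
theorem Emb.same_point {x i j : G} (hx : x ∈ MM) (hx1 : x ≠ 1) (hi2 : orderOf i = 2) (hi : i ∉ MM)
    (hix : i⁻¹ * x * i ∈ MM) (hj2 : orderOf j = 2) (hj : j ∉ MM) (hjx : j⁻¹ * x * j ∈ MM) :
    i⁻¹ * j ∈ MM := by
  obtain ⟨w, hwM, -, -, hwo, hwg, hwc, hwi⟩ := hE.two_point hi2 hi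
  obtain ⟨v, -, -, -, -, hvg, -, hvj⟩ := hE.two_point hj2 hj
  have hii : i⁻¹ = i := inv_eq_of_mul_eq_one_left (by rw [← sq, ← hi2, pow_orderOf_eq_one])
  obtain ⟨k, hk⟩ := mem_zpowers_iff.1 (hwg x hx hix)
  obtain ⟨l, hl⟩ := mem_zpowers_iff.1 (hvg x hx hjx)
  have h1 : i * x * i⁻¹ = x⁻¹ := by rw [← hk, ← conj_zpow, hwi, inv_zpow]
  have h2 : j * x * j⁻¹ = x⁻¹ := by rw [← hl, ← conj_zpow, hvj, inv_zpow]
  have hcx : (i * j) * x = x * (i * j) := by
    calc i * j * x = i * (j * x * j⁻¹) * j := by group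
      _ = (i * x * i⁻¹)⁻¹ * (i * j) := by rw [h2]; group
      _ = x * (i * j) := by rw [h1, inv_inv]
  have hwx : w ∈ zpowers x := by
    have hzc : Nat.card (zpowers w) = p := by rw [Nat.card_zpowers, hwo]
    have h3 := mem_zpowers_of_prime_card (g := (⟨x, hwg x hx hix⟩ : zpowers w))
      (g' := ⟨w, mem_zpowers w⟩) hzc fun h => hx1 (congrArg Subtype.val h)
    obtain ⟨m, hm⟩ := mem_zpowers_iff.1 h3
    exact mem_zpowers_iff.2 ⟨m, congrArg Subtype.val hm⟩
  obtain ⟨m, hm⟩ := mem_zpowers_iff.1 hwx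
  have h4 := hwc (i * j) (by rw [← hm]; exact ((show Commute (i * j) x from hcx).zpow_right m).eq)
  rw [hii]
  exact zpowers_le.2 hwM h4

/-- The normaliser of the Sylow `2`-subgroup is transitive on the other points. -/
theorem Emb.transitive {g h : G} (hg : g ∉ MM) (hh : h ∉ MM) : ∃ m ∈ MM, (m * g)⁻¹ * h ∈ MM := by
  classical
  obtain ⟨i, hi2, hi, hig⟩ := hE.exists_involution hg
  obtain ⟨j, hj2, hj, hjh⟩ := hE.exists_involution hh
  obtain ⟨w, hwM, hwi, -, hwo, -, -, -⟩ := hE.two_point hi2 hi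
  obtain ⟨v, hvM, hvj, -, hvo, -, -, -⟩ := hE.two_point hj2 hj
  have hfac : (Nat.card ↥MM).factorization p = 1 := by
    have h0 : p ∣ Nat.card ↥MM := hwo ▸ Subgroup.orderOf_dvd_natCard MM hwM
    have h1 := ((Fact.out : p.Prime).dvd_iff_one_le_factorization Nat.card_pos.ne').1 h0
    have h2 : ¬ 2 ≤ (Nat.card ↥MM).factorization p := fun h2 => hE.not_sq_dvd
      ((((Fact.out : p.Prime).pow_dvd_iff_le_factorization Nat.card_pos.ne').2 h2).trans
        (card_subgroup_dvd_card _))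
    omega
  have hcard : ∀ y (hy : y ∈ MM), orderOf y = p →
      Nat.card (zpowers (⟨y, hy⟩ : ↥MM)) = p ^ (Nat.card ↥MM).factorization p := fun y hy ho => by
    rw [hfac, pow_one, Nat.card_zpowers, Subgroup.orderOf_mk, ho]
  obtain ⟨m, hm⟩ := MulAction.exists_smul_eq ↥MM (Sylow.ofCard _ (hcard w hwM hwo))
    (Sylow.ofCard _ (hcard v hvM hvo))
  have h1 : ((MulAut.conj m) (⟨w, hwM⟩ : ↥MM)) ∈ zpowers (⟨v, hvM⟩ : ↥MM) := by
    have h2 : ((MulAut.conj m) (⟨w, hwM⟩ : ↥MM)) ∈
        (m • Sylow.ofCard _ (hcard w hwM hwo) : Sylow p ↥MM).toSubgroup := by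
      rw [Sylow.smul_def, Sylow.pointwise_smul_def]
      exact smul_mem_pointwise_smul _ (MulAut.conj m) _ (mem_zpowers _)
    rw [hm] at h2
    exact h2
  obtain ⟨k, hk⟩ := mem_zpowers_iff.1 h1
  have hk' : v ^ k = (m : G) * w * (m : G)⁻¹ := congrArg Subtype.val hk
  refine ⟨m, m.2, ?_⟩
  have hxM : v ^ k ∈ MM := zpow_mem hvM k
  have hx1 : v ^ k ≠ 1 := fun h => by
    rw [hk', mul_inv_eq_one, mul_eq_left] at h
    rw [h, orderOf_one] at hwo
    exact (Fact.out : p.Prime).ne_one hwo.symm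
  have hjx : j⁻¹ * v ^ k * j ∈ MM := by
    have := conj_zpow (i := k) (a := j⁻¹) (b := v)
    rw [inv_inv] at this
    rw [← this]; exact zpow_mem hvj k
  set i' := (m : G) * i * (m : G)⁻¹ with hi'
  have hi'2 : orderOf i' = 2 := (CfsgLib.Invol.orderOf_conj_eq _ _).trans hi2
  have hi'M : i' ∉ MM := fun h => hi (by
    have := mul_mem (mul_mem (inv_mem m.2) h) m.2
    rwa [hi', show (m : G)⁻¹ * ((m : G) * i * (m : G)⁻¹) * m = i by group] at this)
  have hi'x : i'⁻¹ * v ^ k * i' ∈ MM := by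
    rw [hk', hi', show ((m : G) * i * (m : G)⁻¹)⁻¹ * ((m : G) * w * (m : G)⁻¹) * ((m : G) * i * (m : G)⁻¹) =
      (m : G) * (i⁻¹ * w * i) * (m : G)⁻¹ by group]
    exact mul_mem (mul_mem m.2 hwi) (inv_mem m.2)
  have h3 := hE.same_point hxM hx1 hi'2 hi'M hi'x hj2 hj hjx
  rw [show ((m : G) * g)⁻¹ * h = (i⁻¹ * g)⁻¹ * ((m : G)⁻¹ * (i'⁻¹ * j)) * (j⁻¹ * h) by rw [hi']; group]
  exact mul_mem (mul_mem (inv_mem hig) (mul_mem (inv_mem m.2) h3)) hjh

/-- The minimal counterexample does not exist. -/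
theorem Emb.false : False := by
  classical
  have hpp : p.Prime := Fact.out
  haveI := hE.ctx.simple
  obtain ⟨g₀, hg₀⟩ : ∃ g, g ∉ MM := by
    by_contra hc
    push Not at hc
    exact hE.se.1 ((eq_top_iff' _).2 hc)
  obtain ⟨u, hu2, hu, -⟩ := hE.exists_involution hg₀
  obtain ⟨w, hwM, hwu, hwC, hwo, hwg, -, -⟩ := hE.two_point hu2 hu
  obtain ⟨s, hs, hs1⟩ := hE.exists_ne_one
  haveI := Fintype.ofFinite G
  haveI := Fintype.ofFinite (G ⧸ MM)
  set a : G ⧸ MM := QuotientGroup.mk 1 with ha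
  set b : G ⧸ MM := QuotientGroup.mk u with hb
  have hfa : ∀ x : G, x • a = a ↔ x ∈ MM := fun x => by
    rw [ha, CfsgLib.Invol.smul_coset_eq_self]; simp
  have hab : a ≠ b := fun h => hu (by
    have := QuotientGroup.eq.mp h
    simpa using this)
  have htwo : ∀ c d : G ⧸ MM, c ≠ d → ∃ x : G, x • a = c ∧ x • b = d := by
    intro c d hcd
    induction c using QuotientGroup.induction_on with
    | H g =>
    induction d using QuotientGroup.induction_on with
    | H h =>
    have hgh : g⁻¹ * h ∉ MM := fun h1 => hcd (QuotientGroup.eq.2 h1)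
    obtain ⟨m, hm, hmh⟩ := hE.transitive hu hgh
    refine ⟨g * m, ?_, ?_⟩
    · rw [ha, MulAction.Quotient.smul_mk, smul_eq_mul, mul_one, QuotientGroup.eq]
      simpa using hm
    · rw [hb, MulAction.Quotient.smul_mk, smul_eq_mul, QuotientGroup.eq]
      rwa [show (g * m * u)⁻¹ * h = (m * u)⁻¹ * (g⁻¹ * h) by group]
  have hfaith : FaithfulSMul G (G ⧸ MM) := by
    refine ⟨fun {x y} hxy => ?_⟩
    have hker : (MM).normalCore = ⊥ := (hE.ctx.simple.eq_bot_or_eq_top_of_normal _ (normalCore_normal _)).resolve_right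
      fun h => hE.se.1 (top_le_iff.1 (h ▸ normalCore_le _))
    have h1 : x⁻¹ * y ∈ (MM).normalCore := fun z => by
      have h2 := hxy (QuotientGroup.mk z⁻¹)
      rw [MulAction.Quotient.smul_mk, MulAction.Quotient.smul_mk, QuotientGroup.eq, smul_eq_mul, smul_eq_mul] at h2
      rwa [show (x * z⁻¹)⁻¹ * (y * z⁻¹) = z * (x⁻¹ * y) * z⁻¹ by group] at h2
    rw [hker, mem_bot, inv_mul_eq_one] at h1
    exact h1
  have hsg : ∀ g : G, s • (QuotientGroup.mk g : G ⧸ MM) = QuotientGroup.mk g → QuotientGroup.mk g = a :=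
    fun g hg => CfsgLib.Invol.stronglyEmbedded_fixed_unique hE.se (hE.orderOf_eq_two hs hs1) hg
      ((hfa s).2 (le_normalizer hs))
  have hZ : IsZassenhausGroup G (G ⧸ MM) := by
    refine ⟨hfaith, MulAction.is_two_pretransitive_iff.2 fun {c d c' d'} h1 h2 => ?_, ?_, ?_, ?_⟩
    · obtain ⟨x, hx1, hx2⟩ := htwo c d h1
      obtain ⟨y, hy1, hy2⟩ := htwo c' d' h2
      exact ⟨y * x⁻¹, by rw [mul_smul, inv_smul_eq_iff.2 hx1.symm, hy1],
        by rw [mul_smul, inv_smul_eq_iff.2 hx2.symm, hy2]⟩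
    · intro x c d e hcd hde hce hxc hxd hxe
      induction c using QuotientGroup.induction_on with
      | H g =>
      induction d using QuotientGroup.induction_on with
      | H h =>
      induction e using QuotientGroup.induction_on with
      | H k =>
      rw [CfsgLib.Invol.smul_coset_eq_self] at hxc hxd hxe
      obtain ⟨i, hi2, hi, hih⟩ := hE.exists_involution (g := g⁻¹ * h) fun h1 => hcd (QuotientGroup.eq.2 h1)
      obtain ⟨j, hj2, hj, hjk⟩ := hE.exists_involution (g := g⁻¹ * k) fun h1 => hce (QuotientGroup.eq.2 h1)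
      by_contra hx1
      have hy1 : g⁻¹ * x * g ≠ 1 := fun h1 => hx1 (by
        calc x = g * (g⁻¹ * x * g) * g⁻¹ := by group
          _ = 1 := by rw [h1]; group)
      have e1 : i⁻¹ * (g⁻¹ * x * g) * i ∈ MM := by
        rw [show i⁻¹ * (g⁻¹ * x * g) * i = (i⁻¹ * (g⁻¹ * h)) * (h⁻¹ * x * h) * (i⁻¹ * (g⁻¹ * h))⁻¹ by group]
        exact mul_mem (mul_mem hih hxd) (inv_mem hih)
      have e2 : j⁻¹ * (g⁻¹ * x * g) * j ∈ MM := by
        rw [show j⁻¹ * (g⁻¹ * x * g) * j = (j⁻¹ * (g⁻¹ * k)) * (k⁻¹ * x * k) * (j⁻¹ * (g⁻¹ * k))⁻¹ by group]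
        exact mul_mem (mul_mem hjk hxe) (inv_mem hjk)
      have h5 := hE.same_point hxc hy1 hi2 hi e1 hj2 hj e2
      refine hde (QuotientGroup.eq.2 ?_)
      rw [show h⁻¹ * k = (i⁻¹ * (g⁻¹ * h))⁻¹ * (i⁻¹ * j) * (j⁻¹ * (g⁻¹ * k)) by group]
      exact mul_mem (mul_mem (inv_mem hih) h5) hjk
    · refine ⟨w, fun h => hwC (h ▸ one_mem _), a, b, hab, (hfa w).2 hwM, ?_⟩
      rw [hb, CfsgLib.Invol.smul_coset_eq_self]; exact hwu
    · intro N hN hNt
      rcases hE.ctx.simple.eq_bot_or_eq_top_of_normal N hN with rfl | rfl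
      · obtain ⟨⟨x, hx⟩, e⟩ := hNt.exists_smul_eq a b
        obtain rfl : x = 1 := mem_bot.1 hx
        exact absurd ((one_smul G a).symm.trans e) hab
      · refine ⟨a, fun h => hs1 ?_⟩
        have h1 : (⟨s, mem_top s⟩ : (⊤ : Subgroup G)) ∈ MulAction.stabilizer _ a :=
          MulAction.mem_stabilizer_iff.2 ((hfa s).2 (le_normalizer hs))
        exact congrArg Subtype.val (mem_bot.1 (h.le h1))
  have hstab : MulAction.stabilizer G a ⊓ MulAction.stabilizer G b = zpowers w := by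
    ext x
    rw [mem_inf, MulAction.mem_stabilizer_iff, MulAction.mem_stabilizer_iff, hfa, hb,
      CfsgLib.Invol.smul_coset_eq_self]
    refine ⟨fun h => hwg x h.1 h.2, fun h => ?_⟩
    obtain ⟨k, rfl⟩ := mem_zpowers_iff.1 h
    refine ⟨zpow_mem hwM k, ?_⟩
    have := conj_zpow (i := k) (a := u⁻¹) (b := w)
    rw [inv_inv] at this
    rw [← this]; exact zpow_mem hwu k
  have hodd : Odd (Nat.card ↥(MulAction.stabilizer G a ⊓ MulAction.stabilizer G b : Subgroup G)) := by
    rw [hstab, Nat.card_zpowers, hwo]; exact hpp.odd_of_ne_two hE.ctx.ne_two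
  have hCcomm : ∀ x ∈ CC, ∀ y ∈ CC, x * y = y * x := fun x hx y hy => hE.ctx.hyp.commute_of_mem hE.coprime_cc hx hy
  have hfix : ∀ v ∈ CC, v ≠ 1 → ∀ c : G ⧸ MM, v • c = c → c = a := by
    intro v hv hv1 c hc
    induction c using QuotientGroup.induction_on with
    | H g =>
    by_contra hne
    have hg : g ∉ MM := fun h => hne (QuotientGroup.eq.2 (by simpa using h))
    obtain ⟨i, hi2, hi, hig⟩ := hE.exists_involution hg
    rw [CfsgLib.Invol.smul_coset_eq_self] at hc
    refine hv1 (hE.cc_two_point hi2 hi hv ?_)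
    rw [show i⁻¹ * v * i = (i⁻¹ * g) * (g⁻¹ * v * g) * (i⁻¹ * g)⁻¹ by group]
    exact mul_mem (mul_mem hig hc) (inv_mem hig)
  have hcard : Nat.card (CC) + 1 = Fintype.card (G ⧸ MM) := by
    let e : CC → {c : G ⧸ MM // c ≠ a} := fun v => ⟨(v : G) • b, fun h => by
      have h1 : (v : G)⁻¹ • a = b := by rw [← h, inv_smul_smul]
      rw [(hfa _).2 (inv_mem (cc_le_mm v.2))] at h1
      exact hab h1⟩
    have hinj : Function.Injective e := by
      intro v v' h
      have h1 : (v : G) • b = (v' : G) • b := congrArg Subtype.val h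
      refine Subtype.ext (inv_mul_eq_one.1 (by_contra fun hne => hab ?_))
      exact (hfix _ (mul_mem (inv_mem v.2) v'.2) hne b (by rw [mul_smul, ← h1, inv_smul_smul])).symm
    have hsurj : Function.Surjective e := by
      rintro ⟨c, hc⟩
      obtain ⟨x, hxa, hxb⟩ := htwo a c (Ne.symm hc)
      have hxM := (hfa x).1 hxa
      haveI : ((CC).subgroupOf MM).Normal :=
        normal_subgroupOf_of_le_normalizer (CfsgLib.Solvable.normalizer_le_normalizer_centralizer S)
      have hqc : Nat.card (↥MM ⧸ (CC).subgroupOf MM) = p := by rw [← index_eq_card]; exact hE.cc_index.1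
      have h1 := mem_zpowers_of_prime_card (g := QuotientGroup.mk' ((CC).subgroupOf MM) ⟨w, hwM⟩)
        (g' := QuotientGroup.mk' ((CC).subgroupOf MM) ⟨x, hxM⟩) hqc
        (fun h => hwC (mem_subgroupOf.1 ((QuotientGroup.eq_one_iff (⟨w, hwM⟩ : ↥MM)).1 h)))
      obtain ⟨k, hk⟩ := mem_zpowers_iff.1 h1
      have h2 : (⟨x, hxM⟩ : ↥MM) * ((⟨w, hwM⟩ : ↥MM) ^ k)⁻¹ ∈ (CC).subgroupOf MM := by
        rw [← QuotientGroup.eq_one_iff]
        show QuotientGroup.mk' ((CC).subgroupOf MM) _ = 1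
        rw [map_mul, map_inv, map_zpow, hk, mul_inv_cancel]
      refine ⟨⟨x * (w ^ k)⁻¹, mem_subgroupOf.1 h2⟩, Subtype.ext ?_⟩
      show (x * (w ^ k)⁻¹) • b = c
      have hwkb : (w ^ k)⁻¹ • b = b := by
        have h3 : (w ^ k)⁻¹ ∈ MulAction.stabilizer G a ⊓ MulAction.stabilizer G b := by
          rw [hstab]; exact inv_mem (zpow_mem (mem_zpowers w) k)
        exact MulAction.mem_stabilizer_iff.1 h3.2
      rw [mul_smul, hwkb, hxb]
    rw [Nat.card_eq_of_bijective e ⟨hinj, hsurj⟩, Nat.card_eq_fintype_card, Fintype.card_subtype_compl,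
      Fintype.card_subtype_eq]
    have : 0 < Fintype.card (G ⧸ MM) := Fintype.card_pos
    omega
  have hSC : S ≤ CC := fun x hx => mem_centralizer_iff.2 fun y hy =>
    CfsgLib.PGroup.elemAb_comm hE.elem hy hx
  have hsq : ∀ v ∈ CC, v * v = 1 := by
    intro v hv
    by_contra hne
    refine (CfsgLib.Classical22.CTK.KData.false (a := a) (b := b) (H := CC) (u := v) (t := s)
      ⟨hZ, hE.ctx.simple, hab, hodd, fun x hx => MulAction.mem_stabilizer_iff.2 ((hfa x).2 (cc_le_mm hx)),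
        hcard, hfix, hCcomm, ?_, hv, hne, hSC hs, hE.orderOf_eq_two hs hs1⟩)
    rw [even_iff_two_dvd]
    exact (hE.orderOf_eq_two hs hs1) ▸ Subgroup.orderOf_dvd_natCard _ (hSC hs)
  have hCS : CC = S := hE.maximal _ (fun x => ⟨1, Subtype.ext (by
    show (x : G) ^ 2 ^ 1 = 1
    rw [pow_one, sq]; exact hsq x x.2)⟩) hSC
  -- arithmetic
  rw [hCS, hE.card] at hcard
  have hM : Nat.card ↥MM = (p + 1) * p := by
    have h1 := card_mul_index ((CC).subgroupOf MM)
    rw [Nat.card_congr (subgroupOfEquivOfLe cc_le_mm).toEquiv, hE.cc_index.1, hCS, hE.card] at h1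
    exact h1.symm
  have hG : Nat.card G = (p + 2) * ((p + 1) * p) := by
    rw [card_eq_card_quotient_mul_card_subgroup MM, hM, Nat.card_eq_fintype_card (α := G ⧸ MM), ← hcard]
  have hp5 := hE.ctx.five
  have hprime : ∀ q : ℕ, q.Prime → q ∣ p + 2 → q = 3 := by
    intro q hq hqd
    haveI : Fact q.Prime := ⟨hq⟩
    obtain ⟨x, hx⟩ := exists_prime_orderOf_dvd_card' (G := G) q (hqd.trans (hG ▸ dvd_mul_right _ _))
    have hqp : q ≠ p := by
      rintro rfl
      have h1 : q ∣ 2 := by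
        have := Nat.dvd_sub hqd dvd_rfl
        rwa [Nat.add_sub_cancel_left] at this
      have := Nat.le_of_dvd (by norm_num) h1
      omega
    have hco : (Nat.card (zpowers x)).Coprime p := by
      rw [Nat.card_zpowers, hx]; exact (Nat.coprime_primes hq hpp).2 hqp
    have h1 : q ∣ p - 1 := hx ▸ orderOf_dvd_of_pow_eq_one ((hE.ctx.hyp _ hco).2 x (mem_zpowers x))
    have h2 : q ∣ 3 := by
      have := Nat.dvd_sub hqd h1
      rwa [show p + 2 - (p - 1) = 3 by omega] at this
    exact (Nat.prime_dvd_prime_iff_eq hq Nat.prime_three).1 h2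
  obtain ⟨k, hk⟩ : ∃ k, p + 2 = 3 ^ k :=
    ⟨_, Nat.eq_prime_pow_of_unique_prime_dvd (by omega) fun {q} hq hqd => hprime q hq hqd⟩
  obtain ⟨d, hd⟩ := IsPGroup.iff_card.1 (CfsgLib.PGroup.elemAb_isPGroup hE.elem)
  rw [hE.card] at hd
  have hk2 : k = 2 := by
    have hd3 : 3 ≤ d := by
      by_contra hlt
      push Not at hlt
      have : 2 ^ d ≤ 2 ^ 2 := Nat.pow_le_pow_right (by norm_num) (by omega)
      omega
    obtain ⟨d', rfl⟩ := Nat.exists_eq_add_of_le hd3
    rw [pow_add] at hd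
    rcases Nat.even_or_odd k with ⟨j, rfl⟩ | ⟨j, rfl⟩
    · rw [← two_mul, pow_mul', sq] at hk
      have hj3 : 3 ≤ 3 ^ j := by
        rcases j with _ | j
        · simp at hk
        · calc 3 = 3 ^ 1 := (pow_one 3).symm
            _ ≤ _ := Nat.pow_le_pow_right (by norm_num) (by omega)
      obtain ⟨r, hr⟩ := Nat.exists_eq_add_of_le hj3
      have hprod : (2 + r) * (4 + r) = 2 ^ (3 + d') := by
        rw [hr] at hk
        rw [pow_add]
        nlinarith
      obtain ⟨e₁, -, he₁⟩ := (Nat.dvd_prime_pow Nat.prime_two).1 (Dvd.intro _ hprod)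
      obtain ⟨e₂, -, he₂⟩ := (Nat.dvd_prime_pow Nat.prime_two).1 (Dvd.intro_left _ hprod)
      have he : e₁ = 1 := by
        rcases e₁ with _ | _ | e₁
        · simp at he₁; omega
        · rfl
        · rcases e₂ with _ | _ | e₂
          · simp at he₂; omega
          · simp at he₂; omega
          · exfalso; rw [pow_succ, pow_succ] at he₁ he₂; omega
      subst he
      have hr0 : r = 0 := by simp at he₁; omega
      subst hr0
      have hj1 : j = 1 := Nat.pow_right_injective (show 2 ≤ 3 by norm_num) (by simpa using hr)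
      omega
    · exfalso
      have h9 : ∀ j : ℕ, 3 ^ (2 * j + 1) % 8 = 3 := fun j => by
        rw [pow_succ, pow_mul, Nat.mul_mod, Nat.pow_mod]; norm_num
      have := h9 j
      rw [← hk] at this
      omega
  rw [hk2] at hk
  obtain rfl : p = 7 := by omega
  -- no simple group of this shape
  replace hG : Nat.card G = 504 := hG.trans (by norm_num)
  haveI : Fact (Nat.Prime 3) := ⟨Nat.prime_three⟩
  obtain ⟨Q, hQ⟩ := Sylow.exists_subgroup_card_pow_prime (G := G) 3 (n := 2) (by rw [hG]; norm_num)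
  have hQfac : Nat.card Q = 3 ^ (Nat.card G).factorization 3 := by
    have h1 := (Nat.prime_three.pow_dvd_iff_le_factorization Nat.card_pos.ne').1
      (show 3 ^ 2 ∣ Nat.card G by rw [hG]; norm_num)
    have h2 : ¬ 3 ≤ (Nat.card G).factorization 3 := fun h => by
      have h4 := (Nat.prime_three.pow_dvd_iff_le_factorization (Nat.card_pos (α := G)).ne').2 h
      rw [hG] at h4
      norm_num at h4
    rw [hQ, show (Nat.card G).factorization 3 = 2 by omega]
  have hQco : (Nat.card Q).Coprime 7 := by rw [hQ]; norm_num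
  refine CfsgLib.SmallGroups.not_normalizer_le_centralizer hE.ctx.nonab (by rw [hG]; norm_num)
    (Sylow.ofCard Q hQfac) fun n hn => ?_
  change n ∈ normalizer (Q : Set G) at hn
  change n ∈ centralizer (Q : Set G)
  have hn504 : orderOf n ∣ 504 := hG ▸ orderOf_dvd_natCard n
  have h1 : n ^ 7 ∈ centralizer (Q : Set G) := by
    refine mem_centralizer_iff.2 fun y hy => (hE.ctx.hyp.commute_of_normalizes hQco ?_ (pow_mem hn 7) y hy).symm
    refine Nat.Coprime.coprime_dvd_left (orderOf_dvd_of_pow_eq_one (n := 72) ?_) (by norm_num)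
    rw [← pow_mul]; exact orderOf_dvd_iff_pow_eq_one.1 hn504
  have h2 : n ^ 72 ∈ centralizer (Q : Set G) := by
    have h3 : orderOf (n ^ 72) ∣ 7 ^ 1 := orderOf_dvd_of_pow_eq_one (by
      rw [← pow_mul]; exact orderOf_dvd_iff_pow_eq_one.1 hn504)
    obtain ⟨e, -, he⟩ := (Nat.dvd_prime_pow (by norm_num)).1 h3
    have h4 := card_modEq_inf_centralizer (q := 7) Q (pow_mem hn 72) he
    rw [hQ] at h4
    obtain ⟨f, hf2, hf⟩ := (Nat.dvd_prime_pow Nat.prime_three).1
      (hQ ▸ card_dvd_of_le (inf_le_left : Q ⊓ centralizer ({n ^ 72} : Set G) ≤ Q))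
    rw [hf] at h4
    have hf' : f = 2 := by
      rcases f with _ | _ | _ | f
      · exact absurd h4 (by decide)
      · exact absurd h4 (by decide)
      · rfl
      · omega
    have h5 : Q ⊓ centralizer ({n ^ 72} : Set G) = Q :=
      eq_of_le_of_card_ge inf_le_left (by rw [hQ, hf, hf'])
    refine mem_centralizer_iff.2 fun y hy => ?_
    have h6 : y ∈ Q ⊓ centralizer ({n ^ 72} : Set G) := h5.symm ▸ hy
    exact mem_centralizer_singleton_iff.1 h6.2
  have h7 := mul_mem (pow_mem h1 31) (inv_mem (pow_mem h2 3))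
  rw [← pow_mul, ← pow_mul, show 7 * 31 = 1 + 72 * 3 by norm_num, pow_add, pow_one,
    mul_inv_cancel_right] at h7
  exact h7

omit hE

/-- The main theorem. -/
theorem isSolvable_of_abPrime (p : ℕ) [Fact p.Prime] (G : Type v) [Group G] [Finite G]
    (hG : Hyp p G) : Group.IsSolvable G := by
  induction hn : Nat.card G using Nat.strong_induction_on generalizing G with
  | _ n ih =>
  subst hn
  classical
  have hpp : p.Prime := Fact.out
  by_cases hc : IsMulCommutative G
  · exact Group.isSolvable_of_comm fun a b => hc.is_comm.comm a b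
  have hprimes : ∀ q : ℕ, q.Prime → q ∣ Nat.card G → q = p ∨ q ∣ p - 1 := by
    intro q hq hqd
    haveI : Fact q.Prime := ⟨hq⟩
    obtain ⟨x, hx⟩ := exists_prime_orderOf_dvd_card' (G := G) q hqd
    rcases eq_or_ne q p with h | h
    · exact Or.inl h
    · refine Or.inr (hx ▸ orderOf_dvd_of_pow_eq_one ((hG (zpowers x) ?_).2 x (mem_zpowers x)))
      rw [Nat.card_zpowers, hx]; exact (Nat.coprime_primes hq hpp).2 h
  by_cases hp5 : p < 5
  · have h23 : p = 2 ∨ p = 3 := by
      have := hpp.two_le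
      rcases Nat.lt_or_ge p 4 with h | h
      · omega
      · exact absurd (show p = 4 by omega ▸ hpp) (by norm_num)
    set m := ordCompl[2] (Nat.card G) with hm
    have hmp : ∀ q : ℕ, q.Prime → q ∣ m → q = 3 := by
      intro q hq hqm
      have hqd : q ∣ Nat.card G := hqm.trans (Nat.ordCompl_dvd _ _)
      have hq2 : q ≠ 2 := fun h => Nat.not_dvd_ordCompl Nat.prime_two Nat.card_pos.ne' (h ▸ hqm)
      rcases hprimes q hq hqd with rfl | h1
      · rcases h23 with rfl | rfl <;> omega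
      · rcases h23 with rfl | rfl
        · exact absurd (Nat.dvd_one.1 h1) hq.ne_one
        · exact absurd ((Nat.prime_dvd_prime_iff_eq hq Nat.prime_two).1 h1) hq2
    have hm3 : m = 3 ^ m.primeFactorsList.length :=
      Nat.eq_prime_pow_of_unique_prime_dvd (Nat.ordCompl_pos 2 Nat.card_pos.ne').ne' fun {q} hq hqd => hmp q hq hqd
    refine CfsgLib.Char.isSolvable_of_card_eq_pow_mul_pow Nat.prime_two Nat.prime_three
      (a := (Nat.card G).factorization 2) (b := m.primeFactorsList.length) ?_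
    rw [← hm3, hm, Nat.ordProj_mul_ordCompl_eq_self]
  push Not at hp5
  have hsub : ∀ H : Subgroup G, H ≠ ⊤ → Group.IsSolvable H := fun H hH =>
    ih _ (lt_of_le_of_ne (card_le_card_group H) fun h => hH (eq_top_of_card_eq H h)) H (hG.subgroup H) rfl
  by_cases hs : IsSimpleGroup G
  · exfalso
    obtain ⟨S, hE⟩ := Ctx.exists_emb (⟨hG, hs, hc, hp5, hsub⟩ : Ctx p G)
    exact hE.false
  haveI : Nontrivial G := not_subsingleton_iff_nontrivial.1 fun h => hc ⟨⟨fun a b => Subsingleton.elim _ _⟩⟩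
  obtain ⟨R, hRn, hR1, hR2⟩ : ∃ R : Subgroup G, R.Normal ∧ R ≠ ⊥ ∧ R ≠ ⊤ := by
    by_contra hcon
    push Not at hcon
    exact hs ⟨fun R hR => or_iff_not_imp_left.2 (hcon R hR)⟩
  haveI := hRn
  haveI := hsub R hR2
  suffices hq : Group.IsSolvable (G ⧸ R) by
    haveI := hq
    exact Group.isSolvable_of_ker_le_range R.subtype (QuotientGroup.mk' R)
      (by rw [QuotientGroup.ker_mk', range_subtype])
  by_cases hqp : p ∣ Nat.card (G ⧸ R)
  · refine ih _ ?_ (G ⧸ R) ?_ rfl
    · have h1 := card_eq_card_quotient_mul_card_subgroup R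
      have h2 : 1 < Nat.card R := (one_lt_card_iff_ne_bot _).2 hR1
      have h3 : 0 < Nat.card (G ⧸ R) := Nat.card_pos
      nlinarith
    intro H hH
    set π := QuotientGroup.mk' R
    set K := H.comap π with hK
    have hKtop : K ≠ ⊤ := fun h => by
      have h1 : H = ⊤ := by
        rw [← map_comap_eq_self_of_surjective (QuotientGroup.mk'_surjective R) H, ← hK, h,
          map_top_of_surjective _ (QuotientGroup.mk'_surjective R)]
      rw [h1, card_top] at hH
      exact (hpp.coprime_iff_not_dvd.1 hH.symm) hqp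
    haveI := hsub K hKtop
    obtain ⟨L, hL⟩ := CfsgLib.Solvable.exists_hall (G := ↥K) (m := ordCompl[p] (Nat.card K))
      (n := p ^ (Nat.card K).factorization p) (by rw [mul_comm, Nat.ordProj_mul_ordCompl_eq_self])
      ((Nat.coprime_ordCompl hpp Nat.card_pos.ne').symm.pow_right _)
    set f : ↥K →* ↥H := (π.comp K.subtype).codRestrict H fun x => x.2
    have hfs : Function.Surjective f := by
      rintro ⟨y, hy⟩
      obtain ⟨x, rfl⟩ := QuotientGroup.mk'_surjective R y
      exact ⟨⟨x, hy⟩, rfl⟩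
    have hLi : L.index = p ^ (Nat.card K).factorization p := by
      have h1 := card_mul_index L
      rw [hL] at h1
      exact Nat.eq_of_mul_eq_mul_left (Nat.ordCompl_pos p Nat.card_pos.ne')
        (h1.trans (by rw [mul_comm, Nat.ordProj_mul_ordCompl_eq_self]))
    have htop : L.map f = ⊤ := by
      rw [← index_eq_one]
      refine Nat.eq_one_of_dvd_coprimes (hH.pow_right ((Nat.card K).factorization p))
        (index_dvd_card _) ?_
      rw [← hLi]; exact index_map_dvd L hfs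
    set L' := L.map K.subtype
    have hL' : (Nat.card L').Coprime p := by
      rw [card_map_of_injective K.subtype_injective, hL]
      exact (Nat.coprime_ordCompl hpp Nat.card_pos.ne').symm
    obtain ⟨hLc, hLe⟩ := hG L' hL'
    have hlift : ∀ y ∈ H, ∃ l ∈ L', π l = y := by
      intro y hy
      obtain ⟨l, hl, he⟩ := (htop ▸ mem_top (⟨y, hy⟩ : ↥H) : (⟨y, hy⟩ : ↥H) ∈ L.map f)
      exact ⟨l, ⟨l, hl, rfl⟩, congrArg Subtype.val he⟩
    refine ⟨⟨⟨fun a b => Subtype.ext ?_⟩⟩, fun y hy => ?_⟩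
    · obtain ⟨l, hl, h1⟩ := hlift a a.2
      obtain ⟨l', hl', h2⟩ := hlift b b.2
      show (a : G ⧸ R) * b = b * a
      rw [← h1, ← h2, ← map_mul, ← map_mul, hG.commute_of_mem hL' hl hl']
    · obtain ⟨l, hl, rfl⟩ := hlift y hy
      rw [← map_pow, hLe l hl, map_one]
  -- a quotient of order prime to `p`
  obtain ⟨P⟩ : Nonempty (Sylow p G) := inferInstance
  have hPR : (P : Subgroup G) ≤ R := by
    intro x hx
    obtain ⟨k, hk⟩ := P.isPGroup' ⟨x, hx⟩
    have h1 : orderOf (QuotientGroup.mk' R x) ∣ p ^ k := orderOf_dvd_of_pow_eq_one (by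
      rw [← map_pow, show x ^ p ^ k = 1 from congrArg Subtype.val hk, map_one])
    have h2 := Nat.eq_one_of_dvd_coprimes ((hpp.coprime_iff_not_dvd.2 hqp).pow_left k) h1 (orderOf_dvd_natCard _)
    exact (QuotientGroup.eq_one_iff x).1 (orderOf_eq_one_iff.1 h2)
  have hfrat := Sylow.normalizer_sup_eq_top' P hPR
  set N := normalizer ((P : Subgroup G) : Set G) with hN
  have hNs : Group.IsSolvable N := by
    rcases eq_or_ne N ⊤ with hNt | hNt
    swap; · exact hsub N hNt
    haveI : (P : Subgroup G).Normal := normalizer_eq_top_iff.1 hNt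
    haveI : Group.IsNilpotent (P : Subgroup G) := P.isPGroup'.isNilpotent
    have hcoP : (Nat.card (P : Subgroup G)).Coprime (P : Subgroup G).index := by
      obtain ⟨k, hk⟩ := IsPGroup.iff_card.1 P.isPGroup'
      rw [hk]; exact (hpp.coprime_iff_not_dvd.2 P.not_dvd_index).pow_left k
    obtain ⟨K, hK⟩ := exists_right_complement'_of_coprime hcoP
    have hKco : (Nat.card K).Coprime p := by
      rw [← hK.symm.index_eq_card]; exact (hpp.coprime_iff_not_dvd.2 P.not_dvd_index).symm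
    haveI : Group.IsSolvable (G ⧸ (P : Subgroup G)) := Group.isSolvable_of_comm fun a b => by
      obtain ⟨x, rfl⟩ := QuotientGroup.mk_surjective a
      obtain ⟨y, rfl⟩ := QuotientGroup.mk_surjective b
      obtain ⟨⟨d₁, k₁⟩, e1, -⟩ := hK.existsUnique x
      obtain ⟨⟨d₂, k₂⟩, e2, -⟩ := hK.existsUnique y
      rw [← e1, ← e2, QuotientGroup.mk_mul, QuotientGroup.mk_mul,
        (QuotientGroup.eq_one_iff (d₁ : G)).2 d₁.2, (QuotientGroup.eq_one_iff (d₂ : G)).2 d₂.2,
        one_mul, one_mul, ← QuotientGroup.mk_mul, ← QuotientGroup.mk_mul,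
        hG.commute_of_mem hKco k₁.2 k₂.2]
    haveI : Group.IsSolvable G := Group.isSolvable_of_ker_le_range (P : Subgroup G).subtype
      (QuotientGroup.mk' (P : Subgroup G)) (by rw [QuotientGroup.ker_mk', range_subtype])
    infer_instance
  haveI := hNs
  refine Group.isSolvable_of_surjective (f := (QuotientGroup.mk' R).comp N.subtype) fun y => ?_
  obtain ⟨x, rfl⟩ := QuotientGroup.mk'_surjective R y
  have hx : x ∈ N ⊔ R := hfrat.symm.le (mem_top x)
  obtain ⟨a, ha, r, hr, rfl⟩ := mem_sup_of_normal_right.1 hx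
  refine ⟨⟨a, ha⟩, ?_⟩
  show QuotientGroup.mk' R a = QuotientGroup.mk' R (a * r)
  rw [map_mul, show QuotientGroup.mk' R r = 1 from (QuotientGroup.eq_one_iff r).2 hr, mul_one]

end CfsgLib.Transfer.AbPrime
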