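import Cfsg.Agent.Lib.Transfer.AbPrime.Embedded
import Cfsg.Agent.Lib.Invol.Counting

/-!
The structure of the strongly embedded subgroup: it is the normaliser of an elementary abelian Sylow
`2`-subgroup of order `p + 1`.
-/

set_option autoImplicit false

namespace CfsgLib.Transfer.AbPrime

open Subgroup Cfsg
open scoped commutatorElement

theorem eq_of_two_pow_sub_one {d p f : ℕ} (hd : 3 ≤ d) (h : p ^ f + 1 = 2 ^ d) : f = 1 := by
  have h4 : (2 : ℕ) ^ d % 4 = 0 := by
    obtain ⟨e, rfl⟩ := Nat.exists_eq_add_of_le (show 2 ≤ d by omega)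
    rw [pow_add]; simp
  rcases Nat.even_or_odd f with ⟨j, rfl⟩ | ⟨j, rfl⟩
  · exfalso
    rw [← two_mul, pow_mul'] at h
    have h1 : (p ^ j) ^ 2 % 4 = 0 ∨ (p ^ j) ^ 2 % 4 = 1 := by
      rw [Nat.pow_mod]
      have := Nat.mod_lt (p ^ j) (show 4 > 0 by norm_num)
      interval_cases (p ^ j % 4) <;> simp
    omega
  · have hpodd : p % 2 = 1 := by
      rcases Nat.mod_two_eq_zero_or_one p with h0 | h0
      · exfalso
        have : p ^ (2 * j + 1) % 2 = 0 := by rw [Nat.pow_mod, h0]; simp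
        omega
      · exact h0
    have key : ∀ i, ∃ q, p ^ (2 * i + 1) + 1 = (p + 1) * q ∧ q % 2 = 1 ∧ (i = 0 ∨ 1 < q ∨ p = 1) := by
      intro i
      induction i with
      | zero => exact ⟨1, by ring, rfl, Or.inl rfl⟩
      | succ i ih =>
        obtain ⟨q, hq, hq1, -⟩ := ih
        have hq0 : 1 ≤ q := by omega
        have hpq : p ≤ p ^ 2 * q := le_trans (by nlinarith) (Nat.le_mul_of_pos_right _ hq0)
        obtain ⟨q', hq'⟩ : ∃ q', q' + p = p ^ 2 * q + 1 := ⟨p ^ 2 * q + 1 - p, by omega⟩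
        refine ⟨q', ?_, ?_, ?_⟩
        · have h2 : p ^ (2 * (i + 1) + 1) + p ^ 2 = (p + 1) * (p ^ 2 * q) := by
            rw [mul_left_comm, ← hq]; ring
          nlinarith
        · have h3 : (p ^ 2 * q) % 2 = 1 := by rw [Nat.mul_mod, Nat.pow_mod, hpodd, hq1]
          omega
        · rcases Nat.lt_or_ge 1 p with hp | hp
          · refine Or.inr (Or.inl ?_)
            nlinarith
          · exact Or.inr (Or.inr (by omega))
    obtain ⟨q, hq, hq1, h01⟩ := key j
    rcases h01 with rfl | hgt | rfl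
    · rfl
    · exfalso
      rw [h] at hq
      obtain ⟨i, -, hi⟩ := (Nat.dvd_prime_pow Nat.prime_two).1 (Dvd.intro_left (p + 1) hq.symm)
      rcases i with _ | i
      · simp at hi; omega
      · rw [hi, pow_succ] at hq1; omega
    · exfalso
      rw [one_pow] at h
      omega

variable {G : Type*} [Group G] [Finite G] {p : ℕ} [Fact p.Prime] (hG : Ctx p G)
include hG

/-- Two involutions in the Sylow subgroup are conjugate by an element of its normaliser. -/
theorem Ctx.fused [Fact (Nat.Prime 2)] (S : Sylow 2 G) {M : Subgroup G} (hM : IsStronglyEmbedded M)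
    {a b : G} (ha : a ∈ (S : Subgroup G)) (ha2 : orderOf a = 2) (hb : b ∈ (S : Subgroup G))
    (hb2 : orderOf b = 2) : ∃ n ∈ normalizer ((S : Subgroup G) : Set G), n * a * n⁻¹ = b := by
  obtain ⟨g, hg⟩ := isConj_iff.1 (CfsgLib.Invol.stronglyEmbedded_one_class hM ha2 hb2)
  obtain ⟨n, hn, hne⟩ := controlsFusion_normalizer S
    ⟨⟨fun x y => Subtype.ext (hG.comm_two S.isPGroup' x x.2 y y.2)⟩⟩ a ha g (hg.symm ▸ hb)
  exact ⟨n, hn, hne.trans hg⟩

theorem Ctx.sylow_card [Fact (Nat.Prime 2)] (S : Sylow 2 G) {M : Subgroup G} (hM : IsStronglyEmbedded M) :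
    IsElementaryAbelian 2 (S : Subgroup G) ∧ Nat.card (S : Subgroup G) = p + 1 := by
  classical
  have hcS := hG.comm_two S.isPGroup'
  obtain ⟨A, hAS, hA, hAel⟩ := exists_omega hG (S : Subgroup G) hcS
  obtain ⟨hA3, -, -⟩ := hG.omega_large S hAS hA
  obtain ⟨a, haA, ha1⟩ : ∃ a ∈ A, a ≠ 1 := by
    by_contra hc
    push Not at hc
    rw [show A = ⊥ from eq_bot_iff.2 fun v hv => mem_bot.2 (hc v hv), card_bot] at hA3
    omega
  have hord : ∀ x ∈ A, x ≠ 1 → orderOf x = 2 := fun x hx hx1 => orderOf_eq_prime ((hA x).1 hx).2 hx1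
  set N := normalizer ((S : Subgroup G) : Set G) with hN
  set a' : N := ⟨a, le_normalizer (hAS haA)⟩ with ha'
  -- the class of `a` in the normaliser
  have hcl : Nat.card {y : N // IsConj a' y} = Nat.card A - 1 := by
    have e : {y : N // IsConj a' y} ≃ {x : A // x ≠ 1} :=
      { toFun := fun y => ⟨⟨(y.1 : G), by
            obtain ⟨n, hn⟩ := isConj_iff.1 y.2
            rw [← hn]
            refine (hA _).2 ⟨(mem_normalizer_iff.1 n.2 a).1 (hAS haA), ?_⟩
            show ((n : G) * a * (n : G)⁻¹) ^ 2 = 1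
            rw [conj_pow, ((hA a).1 haA).2, mul_one, mul_inv_cancel]⟩, fun h => by
            obtain ⟨n, hn⟩ := isConj_iff.1 y.2
            have h1 : (n : G) * a * (n : G)⁻¹ = 1 :=
              (congrArg (fun z : N => (z : G)) hn).trans (congrArg (fun z : A => (z : G)) h)
            exact ha1 (by rwa [mul_inv_eq_one, mul_eq_left] at h1)⟩
        invFun := fun x => ⟨⟨(x.1 : G), le_normalizer (hAS x.1.2)⟩, by
            obtain ⟨n, hn, hne⟩ := hG.fused S hM (hAS haA) (hord a haA ha1) (hAS x.1.2)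
              (hord x.1 x.1.2 fun h => x.2 (Subtype.ext h))
            exact isConj_iff.2 ⟨⟨n, hn⟩, Subtype.ext hne⟩⟩
        left_inv := fun _ => rfl
        right_inv := fun _ => rfl }
    haveI := Fintype.ofFinite A
    rw [Nat.card_congr e, Nat.card_eq_fintype_card, Fintype.card_subtype_compl, Fintype.card_subtype_eq,
      Nat.card_eq_fintype_card]
  have hmul := CfsgLib.Invol.card_conjugates_mul a'
  -- its size is a power of `p`
  have hprime : ∀ q : ℕ, q.Prime → q ∣ Nat.card A - 1 → q = p := by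
    intro q hq hqd
    by_contra hqp
    haveI : Fact q.Prime := ⟨hq⟩
    set C := centralizer ({a'} : Set N) with hC
    obtain ⟨Q⟩ : Nonempty (Sylow q N) := inferInstance
    have hQC : (Q : Subgroup N) ≤ C := by
      intro z hz
      obtain ⟨k, hk⟩ := (IsPGroup.iff_orderOf.1 Q.isPGroup') ⟨z, hz⟩
      rw [← Subgroup.orderOf_coe, ← Subgroup.orderOf_coe] at hk
      have hco : (orderOf (z : G)).Coprime p := by
        rw [hk]
        exact ((Nat.coprime_primes hq Fact.out).2 hqp).pow_left k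
      refine mem_centralizer_singleton_iff.2 (Subtype.ext ?_)
      exact hG.hyp.commute_of_normalizes (hG.coprime_two S.isPGroup') hco z.2 a (hAS haA)
    have hidx : Nat.card {y : N // IsConj a' y} = C.index := by
      refine Nat.eq_of_mul_eq_mul_right (Nat.card_pos (α := C)) ?_
      rw [hmul, mul_comm, card_mul_index]
    rw [← hcl, hidx] at hqd
    exact Q.not_dvd_index (hqd.trans (index_dvd_of_le hQC))
  have hA1 : Nat.card A - 1 ≠ 0 := by omega
  have hpow : Nat.card A - 1 = p ^ (Nat.card A - 1).primeFactorsList.length :=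
    Nat.eq_prime_pow_of_unique_prime_dvd hA1 fun {q} hq hqd => hprime q hq hqd
  obtain ⟨d, hd⟩ := IsPGroup.iff_card.1 (CfsgLib.PGroup.elemAb_isPGroup hAel)
  set f := (Nat.card A - 1).primeFactorsList.length
  have hd3 : 3 ≤ d := by
    rw [hd] at hA3
    exact (Nat.pow_le_pow_iff_right (by norm_num)).1 hA3
  have hf : f = 1 := eq_of_two_pow_sub_one (p := p) hd3 (by rw [← hd]; omega)
  have hpd : p + 1 = 2 ^ d := by rw [← hd]; rw [hf, pow_one] at hpow; omega
  have hexp : ∀ s ∈ (S : Subgroup G), s ^ 2 = 1 := by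
    intro s hs
    have h1 := (hG.hyp (S : Subgroup G) (hG.coprime_two S.isPGroup')).2 s hs
    obtain ⟨k, hk⟩ := (IsPGroup.iff_orderOf.1 S.isPGroup') ⟨s, hs⟩
    rw [← Subgroup.orderOf_coe] at hk
    have h2 : orderOf s ∣ p - 1 := orderOf_dvd_of_pow_eq_one h1
    have h3 : (orderOf s : ℕ) = 1 ∨ orderOf s = 2 := by
      rw [hk] at h2 ⊢
      rcases k with _ | _ | k
      · exact Or.inl rfl
      · exact Or.inr rfl
      · exfalso
        have h4 : 4 ∣ p - 1 := (Dvd.intro_left (2 ^ k) (by simp [pow_succ]; ring)).trans h2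
        obtain ⟨e, rfl⟩ := Nat.exists_eq_add_of_le (show 2 ≤ d by omega)
        rw [pow_add] at hpd
        omega
    rcases h3 with h3 | h3
    · rw [orderOf_eq_one_iff.1 h3, one_pow]
    · rw [← h3, pow_orderOf_eq_one]
  have hAeq : A = (S : Subgroup G) := le_antisymm hAS fun s hs => (hA s).2 ⟨hs, hexp s hs⟩
  exact ⟨hAeq ▸ hAel, by rw [← hAeq, hd, hpd]⟩

/-- If the Sylow `2`-subgroup is not normal in the strongly embedded subgroup, fusion gives a
proper transfer. -/
theorem Ctx.embedded_le_normalizer [Fact (Nat.Prime 2)] (S : Sylow 2 G) {M : Subgroup G}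
    (hNM : normalizer ((S : Subgroup G) : Set G) ≤ M) (hM : IsStronglyEmbedded M) :
    M ≤ normalizer ((S : Subgroup G) : Set G) := by
  classical
  haveI := hG.simple
  obtain ⟨hSel, hScard⟩ := hG.sylow_card S hM
  have hp5 := hG.five
  have hSM : (S : Subgroup G) ≤ M := le_normalizer.trans hNM
  have hcS := hG.comm_two S.isPGroup'
  haveI := hG.solv M hM.1
  set B := (pPrimeCore p ↥M).map M.subtype with hB
  have hBc : (Nat.card B).Coprime p := by
    rw [card_map_of_injective M.subtype_injective]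
    exact CfsgLib.Cores.coprime_card_pPrimeCore p
  have hBM : M ≤ normalizer (B : Set G) := by
    conv_lhs => rw [← range_subtype M, MonoidHom.range_eq_map, ← normalizer_eq_top (H := pPrimeCore p ↥M)]
    exact le_normalizer_map M.subtype
  by_cases hBS : ∃ a ∈ B, a ∈ (S : Subgroup G) ∧ a ≠ 1
  · -- the normal case
    obtain ⟨a, haB, haS, ha1⟩ := hBS
    have hSB : (S : Subgroup G) ≤ B := by
      intro s hs
      rcases eq_or_ne s 1 with rfl | hs1
      · exact B.one_mem
      obtain ⟨n, hn, rfl⟩ := hG.fused S hM haS (orderOf_eq_prime (hSel.2 a haS) ha1) hs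
        (orderOf_eq_prime (hSel.2 s hs) hs1)
      exact (mem_normalizer_iff.1 (hBM (hNM hn)) a).1 haB
    intro m hm
    refine CfsgLib.Solvable.mem_normalizer_of_conj_mem fun s hs => ?_
    have hB' : m * s * m⁻¹ ∈ B := (mem_normalizer_iff.1 (hBM hm) s).1 (hSB hs)
    have hp2 : IsPGroup 2 (zpowers (m * s * m⁻¹)) := fun z => ⟨1, Subtype.ext (by
      obtain ⟨i, hi⟩ := mem_zpowers_iff.1 z.2
      show (z : G) ^ 2 ^ 1 = 1
      rw [pow_one, ← hi, ← zpow_natCast, ← zpow_mul, mul_comm, zpow_mul, zpow_natCast, conj_pow,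
        hSel.2 s hs, mul_one, mul_inv_cancel, one_zpow])⟩
    have hn : zpowers (m * s * m⁻¹) ≤ normalizer ((S : Subgroup G) : Set G) := by
      refine zpowers_le.2 (CfsgLib.Solvable.mem_normalizer_of_conj_mem fun y hy => ?_)
      rw [hG.hyp.commute_of_mem hBc hB' (hSB hy), mul_inv_cancel_right]
      exact hy
    have h2 := S.3 (S.isPGroup'.to_sup_of_normal_left' hp2 hn) le_sup_left
    exact h2.le (mem_sup_right (mem_zpowers _))
  -- the transfer case
  exfalso
  push Not at hBS
  haveI : Fact p.Prime := inferInstance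
  have hp2 := hG.ne_two
  obtain ⟨P⟩ : Nonempty (Sylow p M) := inferInstance
  set K := pPrimeCore p ↥M with hK
  set π := QuotientGroup.mk' K
  have hst : CfsgLib.PStab.StableAll p G := CfsgLib.Transfer.stableAll_of_stdFree
    (CfsgLib.Transfer.stdFree_of_abelian_two hp2 fun T =>
      ⟨⟨fun x y => Subtype.ext (hG.comm_two T.isPGroup' x x.2 y y.2)⟩⟩)
  have hcons := CfsgLib.Cores.isPConstrained_iff.1
    (CfsgLib.Cores.isPConstrained_of_isSolvable (p := p) (G := ↥M))
  have hKc := CfsgLib.Cores.coprime_card_pPrimeCore (G := ↥M) p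
  set PM : Subgroup M := (P : Subgroup M) with hPM
  have hinj : Function.Injective (π.comp PM.subtype) := by
    rw [injective_iff_map_eq_one]
    intro x hx
    exact Subtype.ext (CfsgLib.PStab.eq_one_of_mem_of_coprime hKc P.isPGroup'
      ((QuotientGroup.eq_one_iff _).1 hx) x.2)
  set Z := CfsgLib.PStab.zjGen 0 PM with hZ
  have hnorm : (CfsgLib.PStab.zjGen 0 (PM.map π)).Normal :=
    CfsgLib.PStab.zjGen_normal hp2
      (fun B _ hB => ((hst.subgroup M).quotient K hKc).isPStableOn B hB) (Or.inl rfl)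
      (P.mapSurjective (QuotientGroup.mk'_surjective K))
      ⟨le_rfl, fun _ _ _ h => h⟩ hcons
  rw [CfsgLib.PStab.zjGen_map_of_injective_restrict hinj] at hnorm
  have htop := CfsgLib.PStab.normalizer_map_le hKc (P.isPGroup'.to_le (CfsgLib.PStab.zjGen_le 0 PM))
  rw [Subgroup.normalizer_eq_top] at htop
  set NZ := normalizer (Z : Set ↥M) with hNZ
  have hsup : K ⊔ NZ = ⊤ := by
    refine eq_top_iff.2 fun x _ => ?_
    obtain ⟨n, hn, e⟩ := htop (mem_top (π x))
    have h1 : x * n⁻¹ ∈ K := by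
      rw [← QuotientGroup.eq_one_iff]
      show π (x * n⁻¹) = 1
      rw [map_mul, map_inv, e, mul_inv_cancel]
    have := mul_mem (mem_sup_left h1 : _ ∈ K ⊔ NZ) (mem_sup_right hn)
    rwa [inv_mul_cancel_right] at this
  -- the normaliser contains a Sylow `2`-subgroup of `M`
  have hKodd : ¬ 2 ∣ Nat.card K := by
    intro h2
    obtain ⟨x, hx⟩ := exists_prime_orderOf_dvd_card' (G := K) 2 h2
    have hx2 : orderOf ((x : M) : G) = 2 := by rw [Subgroup.orderOf_coe, Subgroup.orderOf_coe, hx]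
    obtain ⟨m, hm, hmem⟩ := CfsgLib.Transfer.exists_conj_mem_sylow_of_le S (H := M) hSM
      (S := zpowers ((x : M) : G)) (zpowers_le.2 (x : M).2)
      (IsPGroup.of_card (n := 1) (by rw [Nat.card_zpowers, hx2, pow_one]))
    have h3 := hBS _ ((mem_normalizer_iff.1 (hBM hm) _).1 ⟨x, x.2, rfl⟩) (hmem _ (mem_zpowers _))
    rw [mul_inv_eq_one, mul_eq_left] at h3
    rw [show ((x : M) : G) = 1 from h3, orderOf_one] at hx2
    omega
  obtain ⟨T⟩ : Nonempty (Sylow 2 NZ) := inferInstance
  set TG : Subgroup G := ((T : Subgroup NZ).map NZ.subtype).map M.subtype with hTG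
  have hidx : NZ.index ∣ Nat.card K := by
    have h1 := CfsgLib.Cores.card_sup_dvd_mul K NZ
    rw [hsup, card_top, ← card_mul_index NZ, mul_comm (Nat.card K)] at h1
    exact Nat.dvd_of_mul_dvd_mul_left Nat.card_pos h1
  have hTGcard : Nat.card (S : Subgroup G) ∣ Nat.card TG := by
    rw [hTG, card_map_of_injective M.subtype_injective, card_map_of_injective NZ.subtype_injective]
    have h1 : Nat.card (S : Subgroup G) ∣ Nat.card NZ := by
      have h2 : Nat.card (S : Subgroup G) ∣ Nat.card NZ * NZ.index := by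
        rw [card_mul_index]; exact card_dvd_of_le hSM
      refine (Nat.Coprime.dvd_mul_right ?_).1 h2
      obtain ⟨k, hk⟩ := IsPGroup.iff_card.1 S.isPGroup'
      rw [hk]
      exact ((Nat.Prime.coprime_iff_not_dvd Nat.prime_two).2 fun h => hKodd (h.trans hidx)).pow_left k
    rw [Sylow.card_eq_multiplicity T]
    obtain ⟨k, hk⟩ := IsPGroup.iff_card.1 S.isPGroup'
    rw [hk] at h1 ⊢
    exact Nat.pow_dvd_pow 2 ((Nat.prime_two.pow_dvd_iff_le_factorization Nat.card_pos.ne').1 h1)
  have hTGp : IsPGroup 2 TG := (T.isPGroup'.map _).map _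
  have hTGel : IsElementaryAbelian 2 TG := by
    obtain ⟨g, hg⟩ := CfsgLib.Transfer.exists_conj_mem_sylow S hTGp
    refine CfsgLib.PGroup.isElementaryAbelian_mk (hG.comm_two hTGp) fun x hx => ?_
    have := hSel.2 _ (hg x hx)
    rwa [conj_pow, mul_inv_eq_one, mul_eq_left] at this
  set ZG := Z.map M.subtype with hZG
  have hPne : PM ≠ ⊥ := by
    obtain ⟨A, hAS, hA, -⟩ := exists_omega hG (S : Subgroup G) hcS
    obtain ⟨-, y, hy, ⟨k, hk⟩, hyC⟩ := hG.omega_large S hAS hA
    refine fun h => hyC ?_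
    have hyp : IsPGroup p (zpowers (⟨y, hNM hy⟩ : M)) :=
      IsPGroup.of_card (n := k) (by rw [Nat.card_zpowers, Subgroup.orderOf_mk, hk])
    obtain ⟨Q, hQ⟩ := hyp.exists_le_sylow
    obtain ⟨g, hg⟩ := MulAction.exists_smul_eq M Q P
    have hQb : (Q : Subgroup M) = ⊥ := by
      have h1 : Nat.card (Q : Subgroup M) = Nat.card (P : Subgroup M) := by
        rw [Sylow.card_eq_multiplicity, Sylow.card_eq_multiplicity]
      rw [show (P : Subgroup M) = ⊥ from h, card_bot] at h1
      exact card_eq_one.1 h1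
    have h1 : (⟨y, hNM hy⟩ : M) = 1 := mem_bot.1 (hQb.le (hQ (mem_zpowers _)))
    rw [show y = 1 from congrArg Subtype.val h1]
    exact one_mem _
  have hZne : ZG ≠ ⊥ := fun h => CfsgLib.PStab.zjGen_ne_bot (Or.inl rfl) P.isPGroup' hPne
    ((map_eq_bot_iff_of_injective Z M.subtype_injective).1 h)
  have hZtop : ZG ≠ ⊤ := fun h => hM.1 (top_le_iff.1 (h ▸ map_subtype_le Z))
  have hTL : TG ≤ normalizer (ZG : Set G) :=
    (map_mono (map_subtype_le _)).trans (le_normalizer_map M.subtype)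
  have hLM : normalizer (ZG : Set G) ≤ M :=
    hG.le_of_four hM (hG.normalizer_ne_top hZne hZtop) hTGel
      (le_trans (by omega) (Nat.le_of_dvd Nat.card_pos hTGcard)) hTL (map_subtype_le _)
  set PG : Subgroup G := PM.map M.subtype with hPG
  have hNP : normalizer (PG : Set G) ≤ M := by
    refine le_trans ?_ hLM
    rw [hZG, ← CfsgLib.PStab.zjGen_map M.subtype_injective]
    exact CfsgLib.PStab.normalizer_le_normalizer_zjGen 0 _
  obtain ⟨Q, hQ⟩ := CfsgLib.Invol.exists_sylow_eq_of_normalizer_le P hNP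
  have hQM : (Q : Subgroup G) ≤ M := hQ.trans_le (map_subtype_le _)
  have hctl : ControlsFusion M (Q : Subgroup G) := by
    intro x hx g hgx
    obtain ⟨m, hm, hag⟩ := CfsgLib.PStab.control_of_stableAll hp2 hst (Or.inl rfl) Q
      (D := (Q : Subgroup G)) ⟨le_rfl, fun _ _ _ h => h⟩ (zpowers x) g (zpowers_le.2 hx) (by
        rw [CfsgLib.Fusion.conjSub, MonoidHom.map_zpowers, zpowers_le]
        exact hgx)
    refine ⟨m, hLM ?_, hag x (mem_zpowers x)⟩
    rw [hZG, ← CfsgLib.PStab.zjGen_map M.subtype_injective]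
    rwa [hQ] at hm
  have hcomm : commutator G = ⊤ := (hG.simple.eq_bot_or_eq_top_of_normal (commutator G) inferInstance).resolve_left
    fun h => hG.nonab ⟨⟨fun a b => by
      have h1 : ⁅a, b⁆ ∈ commutator G := Subgroup.commutator_mem_commutator (mem_top a) (mem_top b)
      rw [h, mem_bot, commutatorElement_eq_one_iff_mul_comm] at h1
      exact h1⟩⟩
  have hfoc := CfsgLib.Transfer.commutator_inf_sylow_eq Q hQM hctl
  rw [hcomm, top_inf_eq] at hfoc
  have hQ' : (Q : Subgroup G) ≤ ⁅M, M⁆ := hfoc.le.trans inf_le_left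
  -- `M` has a proper normal subgroup of p-power index above `C(S)`
  set O := (oddCore ↥M).map M.subtype with hO
  set C' := O ⊔ centralizer ((S : Subgroup G) : Set G) with hC'
  obtain ⟨T', hST, -, hT', hdec⟩ := hG.decompose hM.1 S.isPGroup' hSM
  obtain rfl := S.3 hT' hST
  have hMdec : M ≤ O ⊔ normalizer ((S : Subgroup G) : Set G) := hdec.trans (sup_le_sup_left inf_le_right _)
  have hMO : M ≤ normalizer (O : Set G) := by
    conv_lhs => rw [← range_subtype M, MonoidHom.range_eq_map, ← normalizer_eq_top (H := oddCore ↥M)]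
    exact le_normalizer_map M.subtype
  have hCS : centralizer ((S : Subgroup G) : Set G) ≤ normalizer ((S : Subgroup G) : Set G) := fun c hc =>
    CfsgLib.Solvable.mem_normalizer_of_conj_mem fun s hs => by
      rw [← mem_centralizer_iff.1 hc s hs, mul_inv_cancel_right]; exact hs
  have hC'M : C' ≤ M := sup_le (map_subtype_le _) (hCS.trans hNM)
  have hC'n : M ≤ normalizer (C' : Set G) := by
    refine hMdec.trans (sup_le ((le_sup_left : O ≤ C').trans le_normalizer) fun n hn => ?_)
    have h1 : O.map (MulAut.conj n).toMonoidHom ≤ C' := by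
      rintro _ ⟨o, ho, rfl⟩
      exact mem_sup_left ((mem_normalizer_iff.1 (hMO (hNM hn)) o).1 ho)
    have h2 : (centralizer ((S : Subgroup G) : Set G)).map (MulAut.conj n).toMonoidHom ≤ C' := by
      rintro _ ⟨c, hc, rfl⟩
      refine mem_sup_right (mem_centralizer_iff.2 fun s hs => ?_)
      have h3 : n⁻¹ * s * n ∈ (S : Subgroup G) := (mem_normalizer_iff''.1 hn s).1 hs
      show s * (n * c * n⁻¹) = n * c * n⁻¹ * s
      rw [show s * (n * c * n⁻¹) = n * ((n⁻¹ * s * n) * c) * n⁻¹ by group, mem_centralizer_iff.1 hc _ h3]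
      group
    refine CfsgLib.Solvable.mem_normalizer_of_conj_mem fun x hx => ?_
    exact (by rw [hC', Subgroup.map_sup]; exact sup_le h1 h2 :
      C'.map (MulAut.conj n).toMonoidHom ≤ C') ⟨x, hx, rfl⟩
  set C'' := C'.subgroupOf M
  haveI : C''.Normal := normal_subgroupOf_of_le_normalizer hC'n
  have hpq : IsPGroup p (↥M ⧸ C'') := by
    intro z
    obtain ⟨⟨x, hx⟩, rfl⟩ := QuotientGroup.mk_surjective z
    obtain ⟨o, ho, n, hn, rfl⟩ := CfsgLib.Solvable.exists_mul_of_mem_sup
      ((hNM.trans hMO)) (hMdec hx)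
    obtain ⟨k, m', hm', hord⟩ := Nat.exists_eq_pow_mul_and_not_dvd (orderOf_pos n).ne' p (Fact.out : p.Prime).ne_one
    refine ⟨k, ?_⟩
    have hoM : o ∈ M := map_subtype_le _ ho
    have e : (⟨o * n, hx⟩ : M) = ⟨o, hoM⟩ * ⟨n, hNM hn⟩ := rfl
    rw [e, QuotientGroup.mk_mul, (QuotientGroup.eq_one_iff (⟨o, hoM⟩ : M)).2 (mem_sup_left ho : o ∈ C'), one_mul,
      ← QuotientGroup.mk_pow, QuotientGroup.eq_one_iff]
    show n ^ p ^ k ∈ C'
    refine mem_sup_right (mem_centralizer_iff.2 fun s hs => ?_)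
    refine (hG.hyp.commute_of_normalizes (hG.coprime_two S.isPGroup') ?_ (pow_mem hn _) s hs).symm
    rw [orderOf_pow_of_dvd (pow_ne_zero _ (Fact.out : p.Prime).ne_zero) (hord ▸ Dvd.intro _ rfl), hord,
      Nat.mul_div_cancel_left _ (pow_pos (Fact.out : p.Prime).pos k)]
    exact (CfsgLib.Cores.coprime_iff_not_dvd Fact.out _).2 hm'
  have hC''top : C'' ≠ ⊤ := by
    intro h
    obtain ⟨A, hAS, hA, -⟩ := exists_omega hG (S : Subgroup G) hcS
    obtain ⟨-, y, hy, -, hyC⟩ := hG.omega_large S hAS hA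
    have hy' : y ∈ C' := (subgroupOf_eq_top.1 h) (hNM hy)
    obtain ⟨o, ho, c, hc, rfl⟩ := CfsgLib.Solvable.exists_mul_of_mem_sup
      (((hCS.trans hNM).trans hMO)) hy'
    have hoN : o ∈ normalizer ((S : Subgroup G) : Set G) := by
      have := mul_mem hy (inv_mem (hCS hc))
      rwa [mul_inv_cancel_right] at this
    refine hyC (mul_mem (mem_centralizer_iff.2 fun s hs => ?_) hc)
    have h1 : ⁅o, s⁆ ∈ (S : Subgroup G) := by
      rw [commutatorElement_def]
      exact mul_mem ((mem_normalizer_iff.1 hoN s).1 hs) (inv_mem hs)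
    have h2 : ⁅o, s⁆ ∈ O := by
      rw [commutatorElement_def, mul_assoc, mul_assoc]
      refine mul_mem ho ?_
      rw [← mul_assoc]
      exact (mem_normalizer_iff.1 (hMO (hSM hs)) _).1 (inv_mem ho)
    have h3 : ⁅o, s⁆ = 1 := by
      suffices hdis : Disjoint (S : Subgroup G) O from mem_bot.1 (hdis.le_bot ⟨h1, h2⟩)
      refine Subgroup.disjoint_of_coprime_natCard ?_
      obtain ⟨k, hk⟩ := IsPGroup.iff_card.1 S.isPGroup'
      rw [hk, hO, card_map_of_injective M.subtype_injective]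
      exact ((CfsgLib.Cores.coprime_card_pPrimeCore 2).symm).pow_left k
    exact (commutatorElement_eq_one_iff_mul_comm.1 h3).symm
  haveI : Nontrivial (↥M ⧸ C'') := QuotientGroup.nontrivial_iff.2 hC''top
  have hPtop : PM.map (QuotientGroup.mk' C'') = ⊤ := by
    have h1 : ((P.mapSurjective (f := QuotientGroup.mk' C'') (QuotientGroup.mk'_surjective _) : Sylow p _) :
        Subgroup (↥M ⧸ C'')) = ⊤ :=
      ((P.mapSurjective (QuotientGroup.mk'_surjective C'')).3 (hpq.to_subgroup ⊤) le_top).symm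
    rwa [Sylow.coe_mapSurjective] at h1
  haveI : Group.IsNilpotent (↥M ⧸ C'') := hpq.isNilpotent
  have hlt : commutator (↥M ⧸ C'') < ⊤ := Group.IsSolvable.commutator_lt_top_of_nontrivial _
  refine hlt.ne (eq_top_iff.2 (hPtop ▸ ?_))
  have hPM' : PM ≤ commutator ↥M := by
    intro x hx
    have h1 : (x : G) ∈ (commutator ↥M).map M.subtype := by
      rw [_root_.commutator_def, Subgroup.map_commutator, ← MonoidHom.range_eq_map, range_subtype]
      exact hQ' (hQ.symm ▸ ⟨x, hx, rfl⟩)
    obtain ⟨x', hx', e⟩ := h1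
    rwa [M.subtype_injective e] at hx'
  refine (map_mono hPM').trans ?_
  rw [_root_.commutator_def, Subgroup.map_commutator]
  exact Subgroup.commutator_mono le_top le_top

end CfsgLib.Transfer.AbPrime
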