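import Cfsg.Agent.Lib.Transfer.AbPrime.Local
import Cfsg.Agent.Lib.Transfer.Abelian

/-!
The strongly embedded subgroup as a point stabiliser: a two-point stabiliser has order `p` and the
group is doubly transitive on the cosets.
-/

set_option autoImplicit false

namespace CfsgLib.Transfer.AbPrime

open Subgroup Cfsg
open scoped commutatorElement

/-- The structure reached after the local analysis. -/
structure Emb (p : ℕ) {G : Type*} [Group G] (S : Subgroup G) : Prop where
  ctx : Ctx p G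
  se : IsStronglyEmbedded (normalizer (S : Set G))
  elem : IsElementaryAbelian 2 S
  card : Nat.card S = p + 1
  maximal : ∀ T : Subgroup G, IsPGroup 2 T → S ≤ T → T = S

variable {G : Type*} [Group G] [Finite G] {p : ℕ} [Fact p.Prime]

/-- The structure exists. -/
theorem Ctx.exists_emb (hG : Ctx p G) : ∃ S : Subgroup G, Emb p S := by
  haveI : Fact (Nat.Prime 2) := ⟨Nat.prime_two⟩
  obtain ⟨S⟩ : Nonempty (Sylow 2 G) := inferInstance
  obtain ⟨M, hNM, hM⟩ := hG.exists_embedded S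
  obtain rfl := le_antisymm hNM (hG.embedded_le_normalizer S hNM hM)
  obtain ⟨h1, h2⟩ := hG.sylow_card S hM
  exact ⟨S, hG, hM, h1, h2, fun T hT hST => S.3 hT hST⟩

variable {S : Subgroup G}

local notation "MM" => normalizer (S : Set G)
local notation "CC" => centralizer (S : Set G)

omit [Finite G] in
theorem cc_le_mm : CC ≤ MM := fun c hc => by
  refine mem_normalizer_iff.2 fun s => ⟨fun hs => ?_, fun hs => ?_⟩
  · rwa [← mem_centralizer_iff.1 hc s hs, mul_inv_cancel_right]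
  · have h := mem_centralizer_iff.1 hc _ hs
    have e : c * s * c⁻¹ = s := by
      calc c * s * c⁻¹ = c⁻¹ * (c * (c * s * c⁻¹)) * 1 := by group
        _ = c⁻¹ * ((c * s * c⁻¹) * c) * 1 := by rw [h]
        _ = s := by group
    rwa [e] at hs

variable (hE : Emb p S)
include hE

theorem Emb.four_le : 4 ≤ Nat.card S := by have := hE.ctx.five; rw [hE.card]; omega

theorem Emb.le_mm {H : Subgroup G} (hH : H ≠ ⊤) (hSH : S ≤ H) : H ≤ MM :=
  haveI : Fact (Nat.Prime 2) := ⟨Nat.prime_two⟩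
  hE.ctx.le_of_four hE.se hH hE.elem hE.four_le hSH le_normalizer

theorem Emb.mem_of_involution {t : G} (ht : t ∈ MM) (ht2 : orderOf t = 2) : t ∈ S := by
  have hS2 : IsPGroup 2 S := CfsgLib.PGroup.elemAb_isPGroup hE.elem
  have h1 := hE.maximal (S ⊔ zpowers t) (hS2.to_sup_of_normal_left'
    (IsPGroup.of_card (n := 1) (by rw [Nat.card_zpowers, ht2, pow_one])) (zpowers_le.2 ht)) le_sup_left
  exact h1.le (mem_sup_right (mem_zpowers t))

theorem Emb.orderOf_eq_two {s : G} (hs : s ∈ S) (hs1 : s ≠ 1) : orderOf s = 2 :=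
  haveI : Fact (Nat.Prime 2) := ⟨Nat.prime_two⟩
  orderOf_eq_prime (hE.elem.2 s hs) hs1

theorem Emb.exists_ne_one : ∃ s ∈ S, s ≠ 1 := by
  by_contra hc
  push Not at hc
  have h := hE.four_le
  rw [show S = ⊥ from eq_bot_iff.2 fun v hv => mem_bot.2 (hc v hv), card_bot] at h
  omega

theorem Emb.card_coprime : (Nat.card S).Coprime p := by
  haveI : Fact (Nat.Prime 2) := ⟨Nat.prime_two⟩
  exact hE.ctx.coprime_two (CfsgLib.PGroup.elemAb_isPGroup hE.elem)

/-- Elements of order prime to `p` in the normaliser centralise. -/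
theorem Emb.mem_cc_of_coprime {x : G} (hx : x ∈ MM) (hco : (orderOf x).Coprime p) : x ∈ CC :=
  mem_centralizer_iff.2 fun s hs =>
    (hE.ctx.hyp.commute_of_normalizes hE.card_coprime hco hx s hs).symm

/-- The kernel acts without fixed points outside the base point. -/
theorem Emb.normalizer_zpowers_le {x : G} (hx : x ∈ CC) (hx1 : x ≠ 1) :
    normalizer (zpowers x : Set G) ≤ MM := by
  refine hE.le_mm (hE.ctx.normalizer_ne_top ?_ ?_) fun s hs => ?_
  · exact fun h => hx1 (zpowers_eq_bot.1 h)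
  · refine fun h => hE.ctx.nonab ⟨⟨fun a b => ?_⟩⟩
    obtain ⟨i, hi⟩ := mem_zpowers_iff.1 (h ▸ mem_top a : a ∈ zpowers x)
    obtain ⟨j, hj⟩ := mem_zpowers_iff.1 (h ▸ mem_top b : b ∈ zpowers x)
    rw [← hi, ← hj, ← zpow_add, ← zpow_add, add_comm]
  · refine CfsgLib.Solvable.mem_normalizer_of_conj_mem fun z hz => ?_
    obtain ⟨i, rfl⟩ := mem_zpowers_iff.1 hz
    have hc : Commute s x := mem_centralizer_iff.1 hx s hs
    rw [(hc.zpow_right i).eq, mul_inv_cancel_right]
    exact zpow_mem (mem_zpowers x) i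

theorem Emb.centralizer_le {x : G} (hx : x ∈ CC) (hx1 : x ≠ 1) {c : G} (hc : c * x = x * c) : c ∈ MM := by
  refine hE.normalizer_zpowers_le hx hx1 (CfsgLib.Solvable.mem_normalizer_of_conj_mem fun z hz => ?_)
  obtain ⟨i, rfl⟩ := mem_zpowers_iff.1 hz
  rw [((show Commute c x from hc).zpow_right i).eq, mul_inv_cancel_right]
  exact zpow_mem (mem_zpowers x) i

/-- The kernels of two points meet trivially. -/
theorem Emb.cc_inter {g x : G} (hg : g ∉ MM) (hx : x ∈ CC) (hgx : g⁻¹ * x * g ∈ CC) : x = 1 := by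
  by_contra hx1
  obtain ⟨s, hs, hs1⟩ := hE.exists_ne_one
  have hsM : s ∈ MM := le_normalizer hs
  refine hg (CfsgLib.Invol.stronglyEmbedded_conj_mem hE.se hsM (hE.orderOf_eq_two hs hs1) ?_)
  refine hE.centralizer_le hx hx1 ?_
  have h : s * (g⁻¹ * x * g) = g⁻¹ * x * g * s := mem_centralizer_iff.1 hgx s hs
  calc g * s * g⁻¹ * x = g * (s * (g⁻¹ * x * g)) * g⁻¹ := by group
    _ = x * (g * s * g⁻¹) := by rw [h]; group

/-- Elements of order prime to `p` fixing two points are trivial. -/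
theorem Emb.coprime_two_point {g x : G} (hg : g ∉ MM) (hx : x ∈ MM) (hgx : g⁻¹ * x * g ∈ MM)
    (hco : (orderOf x).Coprime p) : x = 1 := by
  refine hE.cc_inter hg (hE.mem_cc_of_coprime hx hco) (hE.mem_cc_of_coprime hgx ?_)
  rwa [show g⁻¹ * x * g = MulAut.conj g⁻¹ x by simp, MulEquiv.orderOf_eq]

theorem Emb.two_point_pow {g x : G} (hg : g ∉ MM) (hx : x ∈ MM) (hgx : g⁻¹ * x * g ∈ MM) :
    ∃ k : ℕ, x ^ p ^ k = 1 := by
  obtain ⟨k, m, hm, hord⟩ := Nat.exists_eq_pow_mul_and_not_dvd (orderOf_pos x).ne' p (Fact.out : p.Prime).ne_one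
  refine ⟨k, hE.coprime_two_point hg (pow_mem hx _) ?_ ?_⟩
  · rw [show g⁻¹ * x ^ p ^ k * g = (g⁻¹ * x * g) ^ p ^ k by
      have := (conj_pow (i := p ^ k) (a := g⁻¹) (b := x)).symm
      rwa [inv_inv] at this]
    exact pow_mem hgx _
  · rw [orderOf_pow_of_dvd (pow_ne_zero _ (Fact.out : p.Prime).ne_zero) (hord ▸ Dvd.intro _ rfl), hord,
      Nat.mul_div_cancel_left _ (pow_pos (Fact.out : p.Prime).pos k)]
    exact (CfsgLib.Cores.coprime_iff_not_dvd Fact.out _).2 hm

theorem Emb.fused {s t : G} (hs : s ∈ S) (hs1 : s ≠ 1) (ht : t ∈ S) (ht1 : t ≠ 1) :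
    ∃ n ∈ MM, n * s * n⁻¹ = t := by
  obtain ⟨g, hg⟩ := isConj_iff.1 (CfsgLib.Invol.stronglyEmbedded_one_class hE.se
    (hE.orderOf_eq_two hs hs1) (hE.orderOf_eq_two ht ht1))
  exact ⟨g, CfsgLib.Invol.stronglyEmbedded_conj_mem hE.se (le_normalizer hs) (hE.orderOf_eq_two hs hs1)
    (by rw [hg]; exact le_normalizer ht), hg⟩

/-- The index of the kernel, and the stabiliser of an involution. -/
theorem Emb.cc_index : ((CC).subgroupOf MM).index = p ∧
    ∀ x ∈ MM, ∀ s ∈ S, s ≠ 1 → x * s = s * x → x ∈ CC := by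
  classical
  haveI hn : ((CC).subgroupOf MM).Normal :=
    normal_subgroupOf_of_le_normalizer (CfsgLib.Solvable.normalizer_le_normalizer_centralizer S)
  set C' := (CC).subgroupOf MM
  have hpq : IsPGroup p (↥MM ⧸ C') := by
    intro z
    obtain ⟨⟨x, hx⟩, rfl⟩ := QuotientGroup.mk_surjective z
    obtain ⟨k, m, hm, hord⟩ := Nat.exists_eq_pow_mul_and_not_dvd (orderOf_pos x).ne' p (Fact.out : p.Prime).ne_one
    refine ⟨k, ?_⟩
    rw [← QuotientGroup.mk_pow, QuotientGroup.eq_one_iff]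
    show x ^ p ^ k ∈ CC
    refine hE.mem_cc_of_coprime (pow_mem hx _) ?_
    rw [orderOf_pow_of_dvd (pow_ne_zero _ (Fact.out : p.Prime).ne_zero) (hord ▸ Dvd.intro _ rfl), hord,
      Nat.mul_div_cancel_left _ (pow_pos (Fact.out : p.Prime).pos k)]
    exact (CfsgLib.Cores.coprime_iff_not_dvd Fact.out _).2 hm
  have key : ∀ s ∈ S, s ≠ 1 → (centralizer ({s} : Set G)).subgroupOf MM = C' ∧ C'.index = p := by
    intro s hs hs1
    set a' : ↥MM := ⟨s, le_normalizer hs⟩
    have hcl : Nat.card {y : ↥MM // IsConj a' y} = p := by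
      have e : {y : ↥MM // IsConj a' y} ≃ {x : S // x ≠ 1} :=
        { toFun := fun y => ⟨⟨(y.1 : G), by
              obtain ⟨n, hn⟩ := isConj_iff.1 y.2
              rw [← hn]
              exact (mem_normalizer_iff.1 n.2 s).1 hs⟩, fun h => by
              obtain ⟨n, hn⟩ := isConj_iff.1 y.2
              have h1 : (n : G) * s * (n : G)⁻¹ = 1 :=
                (congrArg (fun z : ↥MM => (z : G)) hn).trans (congrArg (fun z : S => (z : G)) h)
              exact hs1 (by rwa [mul_inv_eq_one, mul_eq_left] at h1)⟩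
          invFun := fun x => ⟨⟨(x.1 : G), le_normalizer x.1.2⟩, by
              obtain ⟨n, hn, hne⟩ := hE.fused hs hs1 x.1.2 fun h => x.2 (Subtype.ext h)
              exact isConj_iff.2 ⟨⟨n, hn⟩, Subtype.ext hne⟩⟩
          left_inv := fun _ => rfl
          right_inv := fun _ => rfl }
      haveI := Fintype.ofFinite S
      rw [Nat.card_congr e, Nat.card_eq_fintype_card, Fintype.card_subtype_compl, Fintype.card_subtype_eq,
        ← Nat.card_eq_fintype_card, hE.card]
      omega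
    set Z := (centralizer ({s} : Set G)).subgroupOf MM with hZ
    have hZ' : Z = centralizer ({a'} : Set ↥MM) := by
      ext x
      rw [hZ, mem_subgroupOf, mem_centralizer_singleton_iff, mem_centralizer_singleton_iff, Subtype.ext_iff]
      rfl
    have hidx : Z.index = p := by
      have hmul := CfsgLib.Invol.card_conjugates_mul a'
      refine Nat.eq_of_mul_eq_mul_right (Nat.card_pos (α := Z)) ?_
      rw [mul_comm, card_mul_index, hZ', ← hmul, hcl]
    have hCZ : C' ≤ Z := fun x hx => mem_subgroupOf.2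
      (mem_centralizer_singleton_iff.2 (mem_centralizer_iff.1 (mem_subgroupOf.1 hx) s hs).symm)
    have hker : (QuotientGroup.mk' C').ker ≤ Z := by rw [QuotientGroup.ker_mk']; exact hCZ
    set Zq := Z.map (QuotientGroup.mk' C') with hZq
    have hq : Zq.index = p := by
      rw [hZq, index_map_eq _ (QuotientGroup.mk'_surjective C') hker, hidx]
    haveI hZn : Zq.Normal := by
      refine normal_of_index_eq_minFac_card ?_
      obtain ⟨k, hk⟩ := IsPGroup.iff_card.1 hpq
      rw [hq, hk, Nat.pow_minFac, (Fact.out : p.Prime).minFac_eq]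
      intro h0
      have h1 := Zq.index_dvd_card
      rw [hq, hk, h0, pow_zero, Nat.dvd_one] at h1
      exact (Fact.out : p.Prime).ne_one h1
    have hZn' : Z.Normal := by
      have : Z = Zq.comap (QuotientGroup.mk' C') := (comap_map_eq_self hker).symm
      rw [this]; exact hZn.comap _
    have hZC : Z = C' := by
      refine le_antisymm (fun x hx => mem_subgroupOf.2 (mem_centralizer_iff.2 fun t ht => ?_)) hCZ
      rcases eq_or_ne t 1 with rfl | ht1
      · rw [one_mul, mul_one]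
      obtain ⟨n, hn, rfl⟩ := hE.fused hs hs1 ht ht1
      have h1 : ((⟨n, hn⟩ : ↥MM)⁻¹ * x * (⟨n, hn⟩ : ↥MM)) ∈ Z := by
        have := hZn'.conj_mem x hx (⟨n, hn⟩ : ↥MM)⁻¹
        rwa [inv_inv] at this
      have h2 : n⁻¹ * (x : G) * n * s = s * (n⁻¹ * (x : G) * n) :=
        mem_centralizer_singleton_iff.1 (mem_subgroupOf.1 h1)
      calc n * s * n⁻¹ * (x : G) = n * (s * (n⁻¹ * (x : G) * n)) * n⁻¹ := by group
        _ = (x : G) * (n * s * n⁻¹) := by rw [← h2]; group
    exact ⟨hZC, hZC ▸ hidx⟩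
  obtain ⟨s, hs, hs1⟩ := hE.exists_ne_one
  refine ⟨(key s hs hs1).2, fun x hx t ht ht1 hc => ?_⟩
  have h := (key t ht ht1).1.le (show (⟨x, hx⟩ : ↥MM) ∈ _ from mem_subgroupOf.2
    (mem_centralizer_singleton_iff.2 hc))
  exact mem_subgroupOf.1 h

/-- Commutators of the point stabiliser lie in the kernel. -/
theorem Emb.commutator_mem {a b : G} (ha : a ∈ MM) (hb : b ∈ MM) : ⁅a, b⁆ ∈ CC := by
  haveI hn : ((CC).subgroupOf MM).Normal :=
    normal_subgroupOf_of_le_normalizer (CfsgLib.Solvable.normalizer_le_normalizer_centralizer S)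
  set π := QuotientGroup.mk' ((CC).subgroupOf MM)
  haveI : IsCyclic (↥MM ⧸ (CC).subgroupOf MM) := by
    refine isCyclic_of_prime_card (p := p) ?_
    rw [← index_eq_card]; exact hE.cc_index.1
  have h1 : π ⁅(⟨a, ha⟩ : ↥MM), ⟨b, hb⟩⁆ = 1 := by
    rw [map_commutatorElement, commutatorElement_eq_one_iff_mul_comm]
    exact (IsCyclic.isMulCommutative.is_comm).comm _ _
  exact mem_subgroupOf.1 ((QuotientGroup.eq_one_iff _).1 h1)

/-- No element outside the kernel is inverted inside the point stabiliser. -/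
theorem Emb.not_inverted {w m : G} (hw : w ∈ MM) (hwC : w ∉ CC) (hm : m ∈ MM)
    (hinv : m * w * m⁻¹ = w⁻¹) : False := by
  have h1 : w * w ∈ CC := by
    have h2 := inv_mem (hE.commutator_mem hm hw)
    rwa [commutatorElement_def, hinv, ← mul_inv_rev, inv_inv] at h2
  haveI hn : ((CC).subgroupOf MM).Normal :=
    normal_subgroupOf_of_le_normalizer (CfsgLib.Solvable.normalizer_le_normalizer_centralizer S)
  set π := QuotientGroup.mk' ((CC).subgroupOf MM)
  have h2 : (π ⟨w, hw⟩) ^ 2 = 1 := by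
    rw [sq, ← map_mul]
    exact (QuotientGroup.eq_one_iff _).2 (mem_subgroupOf.2 h1)
  have h3 : orderOf (π ⟨w, hw⟩) ∣ Nat.gcd 2 p := by
    refine Nat.dvd_gcd (orderOf_dvd_of_pow_eq_one h2) ?_
    rw [← hE.cc_index.1, index_eq_card]
    exact orderOf_dvd_natCard _
  rw [(Nat.coprime_primes Nat.prime_two Fact.out).2 hE.ctx.ne_two.symm, Nat.dvd_one, orderOf_eq_one_iff] at h3
  exact hwC (mem_subgroupOf.1 ((QuotientGroup.eq_one_iff _).1 h3))

/-- Every other point is the image of the base point under an involution. -/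
theorem Emb.exists_involution {g : G} (hg : g ∉ MM) :
    ∃ i : G, orderOf i = 2 ∧ i ∉ MM ∧ i⁻¹ * g ∈ MM := by
  obtain ⟨t, ht, ht2⟩ := CfsgLib.Invol.stronglyEmbedded_exists_involution hE.se
  have hne : (QuotientGroup.mk 1 : G ⧸ MM) ≠ QuotientGroup.mk g := fun h => hg (by
    have := QuotientGroup.eq.mp h
    simpa using this)
  obtain ⟨i, hi, hixy, -⟩ := CfsgLib.Invol.stronglyEmbedded_exists_swap hE.se ht2
    ((CfsgLib.Invol.orderOf_conj_eq g t).trans ht2)
    (CfsgLib.Invol.smul_coset_eq_self.mpr (by simpa using ht))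
    (CfsgLib.Invol.smul_coset_eq_self.mpr (by simpa [mul_assoc] using ht)) hne
  rw [MulAction.Quotient.smul_mk, QuotientGroup.eq, smul_eq_mul, mul_one] at hixy
  exact ⟨i, hi, fun h => hg (by simpa using mul_mem h hixy), hixy⟩

/-- An involution moving the base point does not normalise a line of a kernel in an abelian two-point
stabiliser it acts nontrivially on. -/
theorem Emb.no_line {u g v d : G} (hu2 : orderOf u = 2)
    (hdu : u * d * u⁻¹ * d⁻¹ ≠ 1) (hodd : ¬ 2 ∣ orderOf (u * d * u⁻¹ * d⁻¹))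
    (hdv : d * v = v * d) (hv1 : v ≠ 1) (hv : g⁻¹ * v * g ∈ CC)
    (huv : u * v * u⁻¹ ∈ zpowers v) : False := by
  set v' := g⁻¹ * v * g with hv'
  have hv'1 : v' ≠ 1 := fun h => hv1 (by
    rw [hv'] at h
    calc v = g * (g⁻¹ * v * g) * g⁻¹ := by group
      _ = 1 := by rw [h]; group)
  have hu' : g⁻¹ * u * g ∈ MM := by
    refine hE.normalizer_zpowers_le hv hv'1 (CfsgLib.Solvable.mem_normalizer_of_conj_mem fun z hz => ?_)
    obtain ⟨i, rfl⟩ := mem_zpowers_iff.1 hz
    obtain ⟨j, hj⟩ := mem_zpowers_iff.1 huv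
    refine mem_zpowers_iff.2 ⟨j * i, ?_⟩
    rw [← conj_zpow, zpow_mul]
    congr 1
    calc v' ^ j = g⁻¹ * v ^ j * g := by
          rw [hv']; have := conj_zpow (i := j) (a := g⁻¹) (b := v); rwa [inv_inv] at this
      _ = _ := by rw [hj, hv']; group
  have hd' : g⁻¹ * d * g ∈ MM := hE.centralizer_le hv hv'1 (by
    calc g⁻¹ * d * g * v' = g⁻¹ * (d * v) * g := by rw [hv']; group
      _ = v' * (g⁻¹ * d * g) := by rw [hdv, hv']; group)
  have hu'2 : orderOf (g⁻¹ * u * g) = 2 := by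
    rw [show g⁻¹ * u * g = MulAut.conj g⁻¹ u by simp, MulEquiv.orderOf_eq, hu2]
  have huS := hE.mem_of_involution hu' hu'2
  have h1 : g⁻¹ * (u * d * u⁻¹ * d⁻¹) * g ∈ S := by
    rw [show g⁻¹ * (u * d * u⁻¹ * d⁻¹) * g =
      (g⁻¹ * u * g) * ((g⁻¹ * d * g) * (g⁻¹ * u * g)⁻¹ * (g⁻¹ * d * g)⁻¹) by group]
    exact mul_mem huS ((mem_normalizer_iff.1 hd' _).1 (inv_mem huS))
  have h2 : orderOf (u * d * u⁻¹ * d⁻¹) ∣ 2 := by
    rw [← MulEquiv.orderOf_eq (MulAut.conj g⁻¹) (u * d * u⁻¹ * d⁻¹)]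
    refine orderOf_dvd_of_pow_eq_one ?_
    rw [MulAut.conj_apply, inv_inv]
    exact hE.elem.2 _ h1
  rcases (Nat.dvd_prime Nat.prime_two).1 h2 with h | h
  · exact hdu (orderOf_eq_one_iff.1 h)
  · exact hodd (h ▸ dvd_rfl)

theorem Emb.odd_orderOf_two_point {g x : G} (hg : g ∉ MM) (hx : x ∈ MM) (hgx : g⁻¹ * x * g ∈ MM) :
    ¬ 2 ∣ orderOf x := by
  obtain ⟨k, hk⟩ := hE.two_point_pow hg hx hgx
  intro h2
  have h3 := (Nat.prime_dvd_prime_iff_eq Nat.prime_two Fact.out).1
    (Nat.prime_two.dvd_of_dvd_pow (h2.trans (orderOf_dvd_of_pow_eq_one hk)))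
  exact hE.ctx.ne_two h3.symm

/-- No nontrivial element of the kernel fixes a second point. -/
theorem Emb.cc_two_point {u x : G} (hu2 : orderOf u = 2) (hu : u ∉ MM) (hx : x ∈ CC)
    (hux : u⁻¹ * x * u ∈ MM) : x = 1 := by
  classical
  by_contra hx1
  have hpp : p.Prime := Fact.out
  have huu : u * u = 1 := by rw [← sq, ← hu2, pow_orderOf_eq_one]
  have hui : u⁻¹ = u := inv_eq_of_mul_eq_one_left huu
  have hinv2 : ∀ y : G, u * (u * y * u) * u = y := fun y => by
    rw [show u * (u * y * u) * u = (u * u) * y * (u * u) by group, huu, one_mul, mul_one]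
  have hmul2 : ∀ y z : G, u * (y * z) * u = (u * y * u) * (u * z * u) := fun y z => by
    rw [show (u * y * u) * (u * z * u) = u * y * (u * u) * z * u by group, huu, mul_one]
    group
  set D := MM ⊓ (MM).map (MulAut.conj u).toMonoidHom with hD
  have memD : ∀ y : G, y ∈ D ↔ y ∈ MM ∧ u * y * u ∈ MM := fun y => by
    rw [hD, mem_inf, CfsgLib.Invol.mem_map_conj, hui]
  have hDu : ∀ y ∈ D, u * y * u ∈ D := fun y hy =>
    (memD _).2 ⟨((memD y).1 hy).2, by rw [hinv2]; exact ((memD y).1 hy).1⟩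
  have hxD : x ∈ D := (memD x).2 ⟨cc_le_mm hx, by rwa [hui] at hux⟩
  set x' := u * x * u with hx'
  have hx'D : x' ∈ D := hDu x hxD
  have hx'C : x' ∉ CC := fun h => hx1 (hE.cc_inter hu hx (by rwa [hui, ← hx']))
  haveI hn : ((CC).subgroupOf MM).Normal :=
    normal_subgroupOf_of_le_normalizer (CfsgLib.Solvable.normalizer_le_normalizer_centralizer S)
  set π := QuotientGroup.mk' ((CC).subgroupOf MM)
  have hqc : Nat.card (↥MM ⧸ (CC).subgroupOf MM) = p := by rw [← index_eq_card]; exact hE.cc_index.1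
  set X := CC ⊓ D with hX
  set φ : ↥X →* ↥MM := (((MulAut.conj u).toMonoidHom).comp X.subtype).codRestrict MM fun y => by
    show u * (y : G) * u⁻¹ ∈ MM
    rw [hui]; exact ((memD y).1 y.2.2).2
  have hφ : Function.Injective (π.comp φ) := by
    rw [injective_iff_map_eq_one]
    intro y hy
    have h1 : u * (y : G) * u⁻¹ ∈ CC := mem_subgroupOf.1 ((QuotientGroup.eq_one_iff _).1 hy)
    refine Subtype.ext (hE.cc_inter hu y.2.1 ?_)
    rwa [hui, ← show u * (y : G) * u⁻¹ = u * y * u by rw [hui]]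
  have hXc : Nat.card X = p := by
    have h1 : Nat.card X ∣ p := by
      have h2 := Subgroup.card_subgroup_dvd_card (π.comp φ).range
      rwa [← Nat.card_congr (MonoidHom.ofInjective hφ).toEquiv, hqc] at h2
    refine ((Nat.dvd_prime hpp).1 h1).resolve_left fun h => hx1 ?_
    exact mem_bot.1 ((card_eq_one.1 h).le ⟨hx, hxD⟩)
  have hxp : x ^ p = 1 := orderOf_dvd_iff_pow_eq_one.1 (hXc ▸ Subgroup.orderOf_dvd_natCard X ⟨hx, hxD⟩)
  obtain ⟨w, hwD, hwC⟩ : ∃ w ∈ D, w ∉ CC := ⟨x', hx'D, hx'C⟩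
  have hDc : Nat.card D = p ^ 2 := by
    set ψ : ↥D →* ↥MM := Subgroup.inclusion inf_le_left
    have hker : (π.comp ψ).ker = X.subgroupOf D := by
      ext y
      rw [MonoidHom.mem_ker, MonoidHom.comp_apply, mem_subgroupOf, hX, mem_inf]
      exact ⟨fun h => ⟨mem_subgroupOf.1 ((QuotientGroup.eq_one_iff (ψ y)).1 h), y.2⟩,
        fun h => (QuotientGroup.eq_one_iff (ψ y)).2 (mem_subgroupOf.2 (show (y : G) ∈ CC from h.1))⟩
    have h1 : Nat.card (π.comp ψ).range = p := by
      refine ((Nat.dvd_prime hpp).1 (hqc ▸ Subgroup.card_subgroup_dvd_card _)).resolve_left fun h => hwC ?_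
      have h2 : (π.comp ψ) ⟨w, hwD⟩ = 1 := mem_bot.1 ((card_eq_one.1 h).le ⟨_, rfl⟩)
      exact mem_subgroupOf.1 ((QuotientGroup.eq_one_iff (ψ ⟨w, hwD⟩)).1 h2)
    rw [← card_mul_index (π.comp ψ).ker, index_ker, h1, hker,
      Nat.card_congr (subgroupOfEquivOfLe (inf_le_right : X ≤ D)).toEquiv, hXc, sq]
  have hab : ∀ a ∈ D, ∀ b ∈ D, a * b = b * a := fun a ha b hb =>
    congrArg Subtype.val (IsPGroup.commutative_of_card_eq_prime_sq hDc ⟨a, ha⟩ ⟨b, hb⟩)
  have hcent : ∀ c : G, c * x = x * c → c * x' = x' * c → c ∈ D := by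
    intro c hc hc'
    refine (memD c).2 ⟨hE.centralizer_le hx hx1 hc, hE.centralizer_le hx hx1 ?_⟩
    have h1 := congrArg (fun z => u * z * u) hc'
    simp only [hmul2] at h1
    rwa [hx', hinv2] at h1
  have hdu : u * x * u⁻¹ * x⁻¹ ≠ 1 := by
    rw [hui, Ne, mul_inv_eq_one, ← hx']
    exact fun h => hx'C (h ▸ hx)
  have hodd : ¬ 2 ∣ orderOf (u * x * u⁻¹ * x⁻¹) := by
    rw [hui, ← hx']
    have h1 := mul_mem hx'D (inv_mem hxD)
    refine hE.odd_orderOf_two_point hu ((memD _).1 h1).1 ?_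
    rw [hui]; exact ((memD _).1 h1).2
  -- a larger `p`-subgroup moves the kernel lines onto every other line
  have h3 : ¬ p ^ 3 ∣ Nat.card G := by
    intro h
    obtain ⟨Q, hQc, hDQ⟩ := Sylow.exists_subgroup_card_pow_succ h hDc
    have hQp : IsPGroup p Q := IsPGroup.of_card hQc
    haveI : Nontrivial Q := by
      rw [← Finite.one_lt_card_iff_nontrivial, hQc]
      exact Nat.one_lt_pow (by norm_num) hpp.one_lt
    haveI := hQp.center_nontrivial
    set A := (center ↥Q).map Q.subtype with hA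
    have hAc : ∀ a ∈ A, a ∈ Q ∧ ∀ q ∈ Q, q * a = a * q := by
      rintro _ ⟨a, ha, rfl⟩
      exact ⟨a.2, fun q hq => congrArg Subtype.val (mem_center_iff.1 ha ⟨q, hq⟩)⟩
    have hAD : A ≤ D := fun a ha =>
      hcent a ((hAc a ha).2 x (hDQ hxD)).symm ((hAc a ha).2 x' (hDQ hx'D)).symm
    have hAne : A ≠ D := by
      intro hAD'
      have hQD : Q ≤ D := fun q hq => hcent q ((hAc x (hAD' ▸ hxD)).2 q hq)
        ((hAc x' (hAD' ▸ hx'D)).2 q hq)
      have h1 := card_le_of_le hQD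
      rw [hQc, hDc] at h1
      exact absurd h1 (not_le.2 (Nat.pow_lt_pow_right hpp.one_lt (by norm_num)))
    have hAcard : Nat.card A = p := by
      obtain ⟨k, hk2, hk⟩ := (Nat.dvd_prime_pow hpp).1 (hDc ▸ card_dvd_of_le hAD)
      have h0 : Nat.card A ≠ 1 := by
        intro h0
        rw [hA, card_map_of_injective Q.subtype_injective, card_eq_one] at h0
        exact (Subgroup.nontrivial_iff_ne_bot _).1 inferInstance h0
      have h2 : k ≠ 2 := fun h2 => hAne (eq_of_le_of_card_ge hAD (by rw [hDc, hk, h2]))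
      rcases k with _ | _ | k
      · exact absurd hk h0
      · rwa [zero_add, pow_one] at hk
      · omega
    have hcomm : ∀ a ∈ Q, ∀ b ∈ Q, a * b * a⁻¹ * b⁻¹ ∈ A := by
      intro a ha b hb
      have hidx : Nat.card (↥Q ⧸ center ↥Q) = p ^ 2 := by
        have h1 := card_eq_card_quotient_mul_card_subgroup (center ↥Q)
        rw [hQc, show Nat.card (center ↥Q) = p by
          rw [← hAcard, hA, card_map_of_injective Q.subtype_injective]] at h1
        exact Nat.eq_of_mul_eq_mul_right hpp.pos (by rw [← h1]; ring)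
      have h1 := IsPGroup.commutative_of_card_eq_prime_sq hidx
        (QuotientGroup.mk' _ ⟨a, ha⟩) (QuotientGroup.mk' _ ⟨b, hb⟩)
      refine ⟨⟨a, ha⟩ * ⟨b, hb⟩ * ⟨a, ha⟩⁻¹ * ⟨b, hb⟩⁻¹, ?_, rfl⟩
      refine (QuotientGroup.eq_one_iff _).1 ?_
      show QuotientGroup.mk' (center ↥Q) _ = 1
      rw [map_mul, map_mul, map_mul, map_inv, map_inv, h1, mul_inv_cancel_right, mul_inv_cancel]
    obtain ⟨v, hvD, hvA, huv⟩ : ∃ v ∈ D, v ∉ A ∧ u * v * u⁻¹ ∈ zpowers v := by
      by_cases h1 : x * x' ∈ A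
      · refine ⟨x * x'⁻¹, mul_mem hxD (inv_mem hx'D), fun h2 => ?_, ?_⟩
        · have h3 : x * x ∈ A := by
            have h4 := mul_mem h1 h2
            rwa [show x * x' * (x * x'⁻¹) = x * (x' * x) * x'⁻¹ by group, hab x' hx'D x hxD,
              show x * (x * x') * x'⁻¹ = x * x by group] at h4
          have h5 : x ∈ A := by
            obtain ⟨j, hj⟩ : Odd p := hpp.odd_of_ne_two hE.ctx.ne_two
            have e : x = (x * x) ^ (j + 1) := by
              rw [← sq, ← pow_mul, show 2 * (j + 1) = p + 1 by omega, pow_succ, hxp, one_mul]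
            rw [e]; exact pow_mem h3 _
          have h6 : x' ∈ A := by
            have := mul_mem (inv_mem h5) h1
            rwa [inv_mul_cancel_left] at this
          have h7 : A = X := by
            refine (eq_of_le_of_card_ge ?_ (by rw [hXc, hAcard])).symm
            intro y hy
            have h8 : (⟨y, hy⟩ : ↥X) ∈ zpowers (⟨x, hx, hxD⟩ : ↥X) :=
              mem_zpowers_of_prime_card hXc fun h => hx1 (congrArg Subtype.val h)
            obtain ⟨i, hi⟩ := mem_zpowers_iff.1 h8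
            rw [show y = x ^ i from (congrArg Subtype.val hi).symm]
            exact zpow_mem h5 i
          exact hx'C (h7 ▸ h6).1
        · have e : u * (x * x'⁻¹) * u⁻¹ = (x * x'⁻¹)⁻¹ := by
            have e1 : u * x'⁻¹ * u = x⁻¹ := by
              rw [hx', mul_inv_rev, mul_inv_rev, hui, show u * (u * (x⁻¹ * u)) * u = (u * u) * x⁻¹ * (u * u) by group,
                huu, one_mul, mul_one]
            rw [hui, hmul2, e1, ← hx', mul_inv_rev, inv_inv]
          rw [e]; exact inv_mem (mem_zpowers _)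
      · refine ⟨x * x', mul_mem hxD hx'D, h1, ?_⟩
        rw [hui, hmul2, hx', hinv2, ← hx', hab x' hx'D x hxD]
        exact mem_zpowers _
    obtain ⟨y, g, hyD, hyA, hyg⟩ : ∃ y g : G, y ∈ D ∧ y ∉ A ∧ ∀ k : ℤ, g⁻¹ * y ^ k * g ∈ CC := by
      by_cases h1 : x ∈ A
      · refine ⟨x', u, hx'D, fun h2 => ?_, fun k => ?_⟩
        · have h7 : A = X := by
            refine (eq_of_le_of_card_ge ?_ (by rw [hXc, hAcard])).symm
            intro y hy
            have h8 : (⟨y, hy⟩ : ↥X) ∈ zpowers (⟨x, hx, hxD⟩ : ↥X) :=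
              mem_zpowers_of_prime_card hXc fun h => hx1 (congrArg Subtype.val h)
            obtain ⟨i, hi⟩ := mem_zpowers_iff.1 h8
            rw [show y = x ^ i from (congrArg Subtype.val hi).symm]
            exact zpow_mem h1 i
          exact hx'C (h7 ▸ h2).1
        · rw [hx', show u * x * u = u * x * u⁻¹ by rw [hui], conj_zpow,
            show u⁻¹ * (u * x ^ k * u⁻¹) * u = x ^ k by group]
          exact zpow_mem hx k
      · exact ⟨x, 1, hxD, h1, fun k => by simpa using zpow_mem hx k⟩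
    obtain ⟨k, hk⟩ : ∃ k : ℤ, v * (y ^ k)⁻¹ ∈ A := by
      haveI : (A.subgroupOf D).Normal := ⟨fun a ha g => by
        have e : g * a * g⁻¹ = a := Subtype.ext (by
          show (g : G) * a * (g : G)⁻¹ = a
          rw [hab g g.2 a a.2, mul_inv_cancel_right])
        rwa [e]⟩
      have hc : Nat.card (↥D ⧸ A.subgroupOf D) = p := by
        have h1 := card_eq_card_quotient_mul_card_subgroup (A.subgroupOf D)
        rw [hDc, Nat.card_congr (subgroupOfEquivOfLe hAD).toEquiv, hAcard, sq] at h1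
        exact (Nat.eq_of_mul_eq_mul_right hpp.pos h1).symm
      have h1 := mem_zpowers_of_prime_card (g := QuotientGroup.mk' (A.subgroupOf D) ⟨y, hyD⟩)
        (g' := QuotientGroup.mk' (A.subgroupOf D) ⟨v, hvD⟩) hc
        (fun h => hyA (mem_subgroupOf.1 ((QuotientGroup.eq_one_iff _).1 h)))
      obtain ⟨i, hi⟩ := mem_zpowers_iff.1 h1
      refine ⟨i, mem_subgroupOf.1 ((QuotientGroup.eq_one_iff (N := A.subgroupOf D)
        ((⟨v, hvD⟩ : ↥D) * ((⟨y, hyD⟩ : ↥D) ^ i)⁻¹)).1 ?_)⟩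
      show QuotientGroup.mk' (A.subgroupOf D) _ = 1
      rw [map_mul, map_inv, map_zpow, hi, mul_inv_cancel]
    set b := y ^ k with hb
    have hbD : b ∈ D := zpow_mem hyD k
    have hbA : b ∉ A := fun h => hvA (by
      have := mul_mem hk h
      rwa [inv_mul_cancel_right] at this)
    obtain ⟨n, hnQ, hnD⟩ : ∃ n ∈ Q, n ∉ D := by
      by_contra hc
      push Not at hc
      have h1 := card_le_of_le (show Q ≤ D from hc)
      rw [hQc, hDc] at h1
      exact absurd h1 (not_le.2 (Nat.pow_lt_pow_right hpp.one_lt (by norm_num)))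
    set c := n * b * n⁻¹ * b⁻¹ with hc
    have hcA : c ∈ A := hcomm n hnQ b (hDQ hbD)
    have hc1 : c ≠ 1 := by
      intro h
      rw [hc, mul_inv_eq_one] at h
      set W := D ⊓ centralizer ({n} : Set G) with hW
      have hAW : A ≤ W := fun a ha => ⟨hAD ha, mem_centralizer_singleton_iff.2 ((hAc a ha).2 n hnQ).symm⟩
      have hbW : b ∈ W := ⟨hbD, mem_centralizer_singleton_iff.2 (mul_inv_eq_iff_eq_mul.1 h).symm⟩
      have hWD : W = D := by
        obtain ⟨j, hj2, hj⟩ := (Nat.dvd_prime_pow hpp).1 (hDc ▸ card_dvd_of_le (inf_le_left : W ≤ D))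
        refine eq_of_le_of_card_ge inf_le_left ?_
        rw [hDc, hj]
        have hlt : p < Nat.card W := by
          rw [← hAcard]
          refine lt_of_le_of_ne (card_le_of_le hAW) fun he => hbA ?_
          rw [eq_of_le_of_card_ge hAW he.ge]; exact hbW
        rw [hj] at hlt
        have : 1 < j := (Nat.pow_lt_pow_iff_right hpp.one_lt).1 (by rwa [pow_one])
        rw [show j = 2 by omega]
      refine hnD (hcent n (mem_centralizer_singleton_iff.1 ((hWD ▸ hxD : x ∈ W)).2).symm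
        (mem_centralizer_singleton_iff.1 ((hWD ▸ hx'D : x' ∈ W)).2).symm)
    obtain ⟨j, hj⟩ : ∃ j : ℕ, c ^ j = v * b⁻¹ := by
      have h1 : (⟨v * b⁻¹, hk⟩ : ↥A) ∈ Submonoid.powers (⟨c, hcA⟩ : ↥A) :=
        mem_powers_iff_mem_zpowers.2
          (mem_zpowers_of_prime_card hAcard fun h => hc1 (congrArg Subtype.val h))
      obtain ⟨j, hj⟩ := h1
      exact ⟨j, congrArg Subtype.val hj⟩
    have hconj : ∀ i : ℕ, n ^ i * b * (n ^ i)⁻¹ = c ^ i * b := by
      intro i
      induction i with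
      | zero => simp
      | succ i ih =>
        have hnc : Commute n c := (hAc c hcA).2 n hnQ
        calc n ^ (i + 1) * b * (n ^ (i + 1))⁻¹ = n * (n ^ i * b * (n ^ i)⁻¹) * n⁻¹ := by
              rw [pow_succ']; group
          _ = (n * c ^ i) * b * n⁻¹ := by rw [ih]; group
          _ = (c ^ i * n) * b * n⁻¹ := by rw [(hnc.pow_right i).eq]
          _ = c ^ i * (n * b * n⁻¹ * b⁻¹) * b := by group
          _ = c ^ (i + 1) * b := by rw [← hc, pow_succ]
    refine hE.no_line (g := n ^ j * g) hu2 hdu hodd (hab x hxD v hvD) (fun h => hvA (h ▸ one_mem A)) ?_ huv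
    have e : v = n ^ j * b * (n ^ j)⁻¹ := by rw [hconj, hj, inv_mul_cancel_right]
    rw [show (n ^ j * g)⁻¹ * v * (n ^ j * g) = g⁻¹ * b * g by rw [e]; group]
    exact hyg k
  -- transfer into the two-point stabiliser
  have hfac : Nat.card D = p ^ (Nat.card G).factorization p := by
    have h1 := (hpp.pow_dvd_iff_le_factorization Nat.card_pos.ne').1 (hDc ▸ card_subgroup_dvd_card D)
    have h2 : ¬ 3 ≤ (Nat.card G).factorization p := fun h =>
      h3 ((hpp.pow_dvd_iff_le_factorization Nat.card_pos.ne').2 h)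
    rw [hDc, show (Nat.card G).factorization p = 2 by omega]
  obtain ⟨P, hP⟩ : ∃ P : Sylow p G, (P : Subgroup G) = D := ⟨Sylow.ofCard D hfac, rfl⟩
  have hPab : IsMulCommutative P := ⟨⟨fun a b =>
    Subtype.ext (hab a (hP ▸ a.2) b (hP ▸ b.2))⟩⟩
  have hfoc := inf_pResidual_eq_commutator P hPab
  have htop : pResidual p G = ⊤ := by
    have hcm : commutator G = ⊤ :=
      (hE.ctx.simple.eq_bot_or_eq_top_of_normal (commutator G) inferInstance).resolve_left fun h =>
        hE.ctx.nonab ⟨⟨fun a b => by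
          have h1 : ⁅a, b⁆ ∈ commutator G := Subgroup.commutator_mem_commutator (mem_top a) (mem_top b)
          rw [h, mem_bot, commutatorElement_eq_one_iff_mul_comm] at h1
          exact h1⟩⟩
    exact top_le_iff.1 (hcm ▸ commutator_le_pResidual_of_abelian_sylow P hPab)
  rw [htop, inf_top_eq, hP] at hfoc
  set N := normalizer (D : Set G) with hN
  have huN : u ∈ N := CfsgLib.Solvable.mem_normalizer_of_conj_mem fun y hy => by
    rw [hui]; exact hDu y hy
  have hNab : ∀ a ∈ N, ∀ b ∈ N, a * b * a⁻¹ * b⁻¹ ∈ D := by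
    set D' := D.subgroupOf N
    haveI : D'.Normal := normal_subgroupOf_of_le_normalizer le_rfl
    have hco : (Nat.card D').Coprime D'.index := by
      rw [Nat.card_congr (subgroupOfEquivOfLe (le_normalizer : D ≤ N)).toEquiv, hDc]
      refine ((hpp.coprime_iff_not_dvd).2 fun h => P.not_dvd_index ?_).pow_left 2
      rw [hP, ← relIndex_mul_index (le_normalizer : D ≤ N)]
      exact h.mul_right _
    obtain ⟨K, hK⟩ := exists_right_complement'_of_coprime hco
    have hKco : (Nat.card (K.map N.subtype)).Coprime p := by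
      rw [card_map_of_injective N.subtype_injective, ← hK.symm.index_eq_card]
      have h1 := hco.symm
      rw [Nat.card_congr (subgroupOfEquivOfLe (le_normalizer : D ≤ N)).toEquiv, hDc] at h1
      exact (Nat.coprime_pow_right_iff (by norm_num) _ _).1 h1
    intro a ha b hb
    obtain ⟨⟨d₁, k₁⟩, e1, -⟩ := hK.existsUnique ⟨a, ha⟩
    obtain ⟨⟨d₂, k₂⟩, e2, -⟩ := hK.existsUnique ⟨b, hb⟩
    have hk : (k₁ : ↥N) * k₂ = k₂ * k₁ := Subtype.ext
      (hE.ctx.hyp.commute_of_mem hKco (mem_map_of_mem N.subtype k₁.2) (mem_map_of_mem N.subtype k₂.2))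
    refine mem_subgroupOf.1 ((QuotientGroup.eq_one_iff (N := D')
      ((⟨a, ha⟩ : ↥N) * ⟨b, hb⟩ * (⟨a, ha⟩ : ↥N)⁻¹ * (⟨b, hb⟩ : ↥N)⁻¹)).1 ?_)
    rw [← e1, ← e2]
    show QuotientGroup.mk' D' _ = 1
    simp only [map_mul, map_inv]
    rw [show QuotientGroup.mk' D' (d₁ : ↥N) = 1 from (QuotientGroup.eq_one_iff _).2 d₁.2,
      show QuotientGroup.mk' D' (d₂ : ↥N) = 1 from (QuotientGroup.eq_one_iff _).2 d₂.2, one_mul, one_mul,
      ← map_mul, hk, map_mul, mul_inv_cancel_right, mul_inv_cancel]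
  obtain ⟨s, hs, hs1⟩ := hE.exists_ne_one
  obtain ⟨g, hg⟩ := isConj_iff.1 (CfsgLib.Invol.stronglyEmbedded_one_class hE.se
    (hE.orderOf_eq_two hs hs1) hu2)
  have hcu : ∀ c : G, u * c * u = c → g⁻¹ * c * g ∈ MM := by
    intro c hc
    refine CfsgLib.Invol.stronglyEmbedded_centralizer_le hE.se (le_normalizer hs)
      (hE.orderOf_eq_two hs hs1) (mem_centralizer_singleton_iff.2 ?_)
    have h1 : c * u = u * c := by
      calc c * u = (u * c * u) * u := by rw [hc]
        _ = u * c := by rw [mul_assoc, huu, mul_one]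
    rw [← hg] at h1
    calc g⁻¹ * c * g * s = g⁻¹ * (c * (g * s * g⁻¹)) * g := by group
      _ = s * (g⁻¹ * c * g) := by rw [h1]; group
  let V : Subgroup G :=
    { carrier := {d | d ∈ D ∧ u * d * u = d⁻¹}
      one_mem' := ⟨one_mem D, by rw [mul_one, huu, inv_one]⟩
      mul_mem' := fun {a b} ha hb => ⟨mul_mem ha.1 hb.1, by
        rw [hmul2, ha.2, hb.2, mul_inv_rev, hab _ (inv_mem ha.1) _ (inv_mem hb.1)]⟩
      inv_mem' := fun {a} ha => ⟨inv_mem ha.1, by
        rw [inv_inv]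
        calc u * a⁻¹ * u = (u * a * u)⁻¹ := by simp [mul_assoc, hui]
          _ = a := by rw [ha.2, inv_inv]⟩ }
  have hV : ∀ h ∈ N, ∀ d ∈ D, h * d * h⁻¹ * d⁻¹ ∈ V := by
    intro h hh d hd
    have hcD : ∀ z ∈ D, h * z * h⁻¹ ∈ D := fun z hz => (mem_normalizer_iff.1 hh z).1 hz
    set e := h⁻¹ * u * h * u with he
    have heD : e ∈ D := by
      have h1 := hNab h⁻¹ (inv_mem hh) u huN
      rwa [inv_inv, hui] at h1
    obtain ⟨j, hj⟩ : Odd (p ^ 2) := (hpp.odd_of_ne_two hE.ctx.ne_two).pow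
    set δ := e ^ (j + 1) with hδ
    have hδD : δ ∈ D := pow_mem heD _
    have hδ2 : δ * δ = e := by
      rw [hδ, ← pow_add, show j + 1 + (j + 1) = p ^ 2 + 1 by omega, pow_succ,
        orderOf_dvd_iff_pow_eq_one.1 (hDc ▸ Subgroup.orderOf_dvd_natCard D heD), one_mul]
    have hue : u * e * u⁻¹ = e⁻¹ := by
      rw [he, mul_inv_rev, mul_inv_rev, mul_inv_rev, inv_inv, hui]
      rw [show u * (h⁻¹ * u * h * u) * u = u * h⁻¹ * u * h * (u * u) by group, huu, mul_one]
      group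
    have huδ : u * δ * u = δ⁻¹ := by
      rw [show u * δ * u = u * δ * u⁻¹ by rw [hui], hδ, ← conj_pow, hue, inv_pow]
    set h0 := h * δ with hh0
    have hh0N : h0 ∈ N := mul_mem hh (le_normalizer hδD)
    have hh0u : u * h0 * u = h0 := by
      rw [hh0, hmul2, huδ, show u * h * u = h * e by rw [he]; group, ← hδ2]
      group
    have hsame : ∀ z ∈ D, h0 * z * h0⁻¹ = h * z * h⁻¹ := fun z hz => by
      rw [hh0, show h * δ * z * (h * δ)⁻¹ = h * (δ * z * δ⁻¹) * h⁻¹ by group, hab δ hδD z hz,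
        mul_inv_cancel_right]
    have huh : ∀ z ∈ D, u * (h * z * h⁻¹) * u = h * (u * z * u) * h⁻¹ := by
      intro z hz
      rw [← hsame z hz, ← hsame _ (hDu z hz), hmul2, hmul2, hh0u]
      congr 1
      calc u * h0⁻¹ * u = (u * h0 * u)⁻¹ := by simp [mul_assoc, hui]
        _ = h0⁻¹ := by rw [hh0u]
    have hfix : ∀ z ∈ D, u * z * u = z → h * z * h⁻¹ = z := by
      intro z hz hzu
      by_contra hne
      set c := h * z * h⁻¹ * z⁻¹ with hc
      have hcD' : c ∈ D := mul_mem (hcD z hz) (inv_mem hz)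
      refine hE.no_line (g := g) hu2 hdu hodd (hab x hxD c hcD') (fun h => hne (mul_inv_eq_one.1 h)) ?_ ?_
      · rw [hc, ← hsame z hz]
        have h1 := hE.commutator_mem (hcu h0 hh0u) (hcu z hzu)
        rwa [commutatorElement_def, show g⁻¹ * h0 * g * (g⁻¹ * z * g) * (g⁻¹ * h0 * g)⁻¹ * (g⁻¹ * z * g)⁻¹ =
          g⁻¹ * (h0 * z * h0⁻¹ * z⁻¹) * g by group] at h1
      · rw [hui, hc, hmul2, huh z hz, hzu,
          show u * z⁻¹ * u = (u * z * u)⁻¹ by simp [mul_assoc, hui], hzu]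
        exact mem_zpowers _
    refine ⟨mul_mem (hcD d hd) (inv_mem hd), ?_⟩
    have hd' := hDu d hd
    have h1 := hfix (d * (u * d * u)) (mul_mem hd hd') (by
      rw [hmul2, hinv2, hab _ hd' d hd])
    rw [show h * (d * (u * d * u)) * h⁻¹ = (h * d * h⁻¹) * (h * (u * d * u) * h⁻¹) by group] at h1
    rw [hmul2, huh d hd, show u * d⁻¹ * u = (u * d * u)⁻¹ by simp [mul_assoc, hui]]
    have hB := hcD _ hd'
    have hA := hcD d hd
    generalize h * d * h⁻¹ = a at h1 hA ⊢
    generalize h * (u * d * u) * h⁻¹ = a' at h1 hB ⊢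
    generalize u * d * u = d' at h1 hd' ⊢
    have e1 : a' = a⁻¹ * (d * d') := by rw [← h1, inv_mul_cancel_left]
    rw [e1, show a⁻¹ * (d * d') * d'⁻¹ = a⁻¹ * d by group, hab _ (inv_mem hA) d hd, mul_inv_rev, inv_inv]
  have hle : D ≤ V := hfoc.le.trans (commutator_le.2 fun d hd h hh => by
    have hh' : h ∈ N := by
      have e : ((P : Subgroup G) : Set G) = (D : Set G) := congrArg SetLike.coe hP
      rw [hN, ← e]; exact hh
    have h1 := V.inv_mem (hV h hh' d hd)
    rw [commutatorElement_def]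
    rwa [show (h * d * h⁻¹ * d⁻¹)⁻¹ = d * h * d⁻¹ * h⁻¹ by group] at h1)
  have h1 : x' = x⁻¹ := (hle hxD).2
  exact hx'C (h1 ▸ inv_mem hx)

/-- A two-point stabiliser has order `p` and is its own centraliser. -/
theorem Emb.two_point {u : G} (hu2 : orderOf u = 2) (hu : u ∉ MM) :
    ∃ w : G, w ∈ MM ∧ u⁻¹ * w * u ∈ MM ∧ w ∉ CC ∧ orderOf w = p ∧
      (∀ y ∈ MM, u⁻¹ * y * u ∈ MM → y ∈ zpowers w) ∧
      (∀ c : G, c * w = w * c → c ∈ zpowers w) ∧ u * w * u⁻¹ = w⁻¹ := by
  classical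
  have hpp : p.Prime := Fact.out
  have huu : u * u = 1 := by rw [← sq, ← hu2, pow_orderOf_eq_one]
  have hui : u⁻¹ = u := inv_eq_of_mul_eq_one_left huu
  obtain ⟨s, hs, hs1⟩ := hE.exists_ne_one
  obtain ⟨t, ht, ht1, hts⟩ : ∃ t ∈ S, t ≠ 1 ∧ t ≠ s := by
    by_contra hc
    push Not at hc
    have h : S ≤ zpowers s := fun t ht => by
      rcases eq_or_ne t 1 with rfl | ht1
      · exact one_mem _
      · rw [hc t ht ht1]; exact mem_zpowers s
    have h1 := card_le_of_le h
    rw [Nat.card_zpowers, hE.orderOf_eq_two hs hs1] at h1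
    have := hE.four_le
    omega
  obtain ⟨w, hwD, hws⟩ := CfsgLib.Invol.stronglyEmbedded_transitive hE.se hu2 hu
    (hE.orderOf_eq_two hs hs1) (le_normalizer hs) (hE.orderOf_eq_two ht ht1) (le_normalizer ht)
  rw [mem_inf, CfsgLib.Invol.mem_map_conj] at hwD
  have hwC : w ∉ CC := fun h => hts (by
    rw [← hws, ← mem_centralizer_iff.1 h s hs, mul_inv_cancel_right])
  haveI hn : ((CC).subgroupOf MM).Normal :=
    normal_subgroupOf_of_le_normalizer (CfsgLib.Solvable.normalizer_le_normalizer_centralizer S)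
  set π := QuotientGroup.mk' ((CC).subgroupOf MM)
  have hqc : Nat.card (↥MM ⧸ (CC).subgroupOf MM) = p := by rw [← index_eq_card]; exact hE.cc_index.1
  set D := MM ⊓ (MM).map (MulAut.conj u).toMonoidHom with hD
  have memD : ∀ y : G, y ∈ D ↔ y ∈ MM ∧ u⁻¹ * y * u ∈ MM := fun y => by
    rw [hD, mem_inf, CfsgLib.Invol.mem_map_conj]
  set ψ : ↥D →* ↥MM := Subgroup.inclusion inf_le_left
  have hinj : Function.Injective (π.comp ψ) := by
    rw [injective_iff_map_eq_one]
    intro y hy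
    exact Subtype.ext (hE.cc_two_point hu2 hu (mem_subgroupOf.1 ((QuotientGroup.eq_one_iff (ψ y)).1 hy))
      ((memD y).1 y.2).2)
  have hw1 : w ≠ 1 := fun h => hwC (h ▸ one_mem _)
  have hwDm : w ∈ D := (memD w).2 hwD
  have hDc : Nat.card D = p := by
    have h2 := Subgroup.card_subgroup_dvd_card (π.comp ψ).range
    rw [← Nat.card_congr (MonoidHom.ofInjective hinj).toEquiv, hqc] at h2
    exact ((Nat.dvd_prime hpp).1 h2).resolve_left fun h => hw1 (mem_bot.1 ((card_eq_one.1 h).le hwDm))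
  have hword : orderOf w = p :=
    ((Nat.dvd_prime hpp).1 (hDc ▸ Subgroup.orderOf_dvd_natCard D hwDm)).resolve_left
      fun h => hw1 (orderOf_eq_one_iff.1 h)
  have hgen : ∀ y ∈ MM, u⁻¹ * y * u ∈ MM → y ∈ zpowers w := by
    have h : zpowers w = D :=
      eq_of_le_of_card_ge (zpowers_le.2 hwDm) (by rw [hDc, Nat.card_zpowers, hword])
    intro y hy hy'
    rw [h]; exact (memD y).2 ⟨hy, hy'⟩
  -- involutions swapping the two points invert
  have hinvert : ∀ i : G, orderOf i = 2 → i ∉ MM → i⁻¹ * w * i ∈ MM →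
      (∀ y ∈ MM, i⁻¹ * y * i ∈ MM → y ∈ zpowers w) → i * w * i⁻¹ = w⁻¹ := by
    intro i hi2 hi hiw higen
    have hii : i⁻¹ = i := inv_eq_of_mul_eq_one_left (by rw [← sq, ← hi2, pow_orderOf_eq_one])
    obtain ⟨k, hk⟩ := mem_zpowers_iff.1 (higen (i⁻¹ * w * i) hiw (by
      rw [show i⁻¹ * (i⁻¹ * w * i) * i = (i * i)⁻¹ * w * (i * i) by group,
        ← sq, ← hi2, pow_orderOf_eq_one, inv_one, one_mul, mul_one]
      exact hwD.1))
    rw [hii] at hk
    have h2 : w ^ (k * k) = w := by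
      rw [zpow_mul, hk, show i * w * i = i * w * i⁻¹ by rw [hii], conj_zpow, hk, hii]
      rw [show i * (i * w * i) * i = (i * i) * w * (i * i) by group, ← sq, ← hi2, pow_orderOf_eq_one,
        one_mul, mul_one]
    have h3 : (p : ℤ) ∣ k * k - 1 := by
      rw [← hword, orderOf_dvd_iff_zpow_eq_one, zpow_sub, zpow_one, h2, mul_inv_cancel]
    rw [show k * k - 1 = (k - 1) * (k + 1) by ring] at h3
    rcases (Nat.prime_iff_prime_int.1 hpp).dvd_or_dvd h3 with h4 | h4
    · exfalso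
      have hwi : i * w * i = w := by
        rw [← hk]
        have h5 : w ^ (k - 1) = 1 := orderOf_dvd_iff_zpow_eq_one.1 (hword ▸ h4)
        rwa [zpow_sub, zpow_one, mul_inv_eq_one] at h5
      have hcomm : w * i = i * w := by
        calc w * i = i * w * i * i := by rw [hwi]
          _ = i * w := by rw [mul_assoc, ← sq, ← hi2, pow_orderOf_eq_one, mul_one]
      obtain ⟨g, hg⟩ := isConj_iff.1 (CfsgLib.Invol.stronglyEmbedded_one_class hE.se
        (hE.orderOf_eq_two hs hs1) hi2)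
      have hgM : g ∉ MM := fun hg' => hi (by
        rw [← hg]; exact mul_mem (mul_mem hg' (le_normalizer hs)) (inv_mem hg'))
      have hw' : (g⁻¹ * w * g) * s = s * (g⁻¹ * w * g) := by
        rw [← hg] at hcomm
        calc g⁻¹ * w * g * s = g⁻¹ * (w * (g * s * g⁻¹)) * g := by group
          _ = s * (g⁻¹ * w * g) := by rw [hcomm]; group
      have hwM : g⁻¹ * w * g ∈ MM := CfsgLib.Invol.stronglyEmbedded_centralizer_le hE.se
        (le_normalizer hs) (hE.orderOf_eq_two hs hs1) (mem_centralizer_singleton_iff.2 hw')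
      have hwCC := hE.cc_index.2 _ hwM s hs hs1 hw'
      obtain ⟨i', hi', hi'M, hi'g⟩ := hE.exists_involution (g := g⁻¹) fun h => hgM (inv_mem_iff.1 h)
      have h6 := hE.cc_two_point hi' hi'M hwCC (by
        rw [show i'⁻¹ * (g⁻¹ * w * g) * i' = (i'⁻¹ * g⁻¹) * w * (i'⁻¹ * g⁻¹)⁻¹ by group]
        exact mul_mem (mul_mem hi'g hwD.1) (inv_mem hi'g))
      exact hw1 (by
        calc w = g * (g⁻¹ * w * g) * g⁻¹ := by group
          _ = 1 := by rw [h6]; group)
    · have h5 : w ^ (k + 1) = 1 := orderOf_dvd_iff_zpow_eq_one.1 (hword ▸ h4)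
      rw [zpow_add, zpow_one, mul_eq_one_iff_eq_inv, hk] at h5
      rwa [hii]
  have huw := hinvert u hu2 hu hwD.2 hgen
  have hcM : ∀ c : G, c * w = w * c → c ∈ MM := by
    intro c hc
    by_contra hcM
    obtain ⟨i, hi2, hiM, hic⟩ := hE.exists_involution hcM
    have hiw : i⁻¹ * w * i ∈ MM := by
      have h1 := mul_mem (mul_mem hic hwD.1) (inv_mem hic)
      rwa [show i⁻¹ * c * w * (i⁻¹ * c)⁻¹ = i⁻¹ * (c * w) * c⁻¹ * i by group, hc,
        show i⁻¹ * (w * c) * c⁻¹ * i = i⁻¹ * w * i by group] at h1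
    set D₁ := MM ⊓ (MM).map (MulAut.conj i).toMonoidHom with hD₁
    set ψ₁ : ↥D₁ →* ↥MM := Subgroup.inclusion inf_le_left
    have hinj₁ : Function.Injective (π.comp ψ₁) := by
      rw [injective_iff_map_eq_one]
      intro y hy
      have hy2 : (y : G) ∈ MM ⊓ (MM).map (MulAut.conj i).toMonoidHom := y.2
      rw [mem_inf, CfsgLib.Invol.mem_map_conj] at hy2
      exact Subtype.ext (hE.cc_two_point hi2 hiM (mem_subgroupOf.1 ((QuotientGroup.eq_one_iff (ψ₁ y)).1 hy)) hy2.2)
    have hwD₁ : w ∈ D₁ := by rw [hD₁, mem_inf, CfsgLib.Invol.mem_map_conj]; exact ⟨hwD.1, hiw⟩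
    have h1 : zpowers w = D₁ := by
      refine eq_of_le_of_card_ge (zpowers_le.2 hwD₁) ?_
      rw [Nat.card_zpowers, hword]
      have h2 := Subgroup.card_subgroup_dvd_card (π.comp ψ₁).range
      rw [← Nat.card_congr (MonoidHom.ofInjective hinj₁).toEquiv, hqc] at h2
      exact Nat.le_of_dvd hpp.pos h2
    have hiinv := hinvert i hi2 hiM hiw fun y hy hy' => by
      rw [h1, hD₁, mem_inf, CfsgLib.Invol.mem_map_conj]; exact ⟨hy, hy'⟩
    refine hE.not_inverted hwD.1 hwC hic ?_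
    rw [show i⁻¹ * c * w * (i⁻¹ * c)⁻¹ = i⁻¹ * (c * w) * c⁻¹ * i by group, hc,
      show i⁻¹ * (w * c) * c⁻¹ * i = i⁻¹ * w * i by group]
    calc i⁻¹ * w * i = i⁻¹ * (i * w * i⁻¹)⁻¹ * i := by rw [hiinv, inv_inv]
      _ = w⁻¹ := by group
  refine ⟨w, hwD.1, hwD.2, hwC, hword, hgen, fun c hc => hgen c (hcM c hc) (hcM _ ?_), huw⟩
  have hwi : u⁻¹ * w * u = w⁻¹ := by rw [hui]; rwa [hui] at huw
  have h7 : w = u⁻¹ * w⁻¹ * u := by
    rw [← hwi, show u⁻¹ * (u⁻¹ * w * u) * u = (u * u)⁻¹ * w * (u * u) by group, huu, inv_one, one_mul, mul_one]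
  calc u⁻¹ * c * u * w = u⁻¹ * c * u * (u⁻¹ * w⁻¹ * u) := by rw [← h7]
    _ = u⁻¹ * (c * w⁻¹) * u := by group
    _ = u⁻¹ * (w⁻¹ * c) * u := by rw [(show Commute c w from hc).inv_right.eq]
    _ = (u⁻¹ * w⁻¹ * u) * (u⁻¹ * c * u) := by group
    _ = w * (u⁻¹ * c * u) := by rw [← h7]

end CfsgLib.Transfer.AbPrime
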